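import Groth.Prelude.Def_VanCyc
import Groth.Agent.EtpbcB.HLim
import Groth.Agent.Etcore.FGLim
import Mathlib.FieldTheory.Galois.Infinite

/-!
# The Galois action on the cohomology of the geometric generic fibre

`f : X ⟶ Spec R`, `K` an `R`-algebra (a field), `Ω` a Galois extension of `K`,
`VanCyc.galH f σ F q : H^q(X_Ω, F) → H^q(X_Ω, F)` for `σ ∈ Gal(Ω/K)`.

* `galH_one`, `galH_mul`: it is an action.
* `exists_finite_fix`: it is continuous, if `f` is quasi-compact and quasi-separated and `Ω/K` is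
  algebraic: every class is fixed by `Gal(Ω/L)` for a finite subextension `L`.
-/

set_option autoImplicit false
set_option linter.unusedSectionVars false

open CategoryTheory CategoryTheory.Limits AlgebraicGeometry Opposite
open CategoryTheory.Abelian

universe u

namespace Groth.Agent.Vancyc.H684.GalCont

open Groth.Agent.EtpbcB.HRel Groth.Agent.EtpbcB.HLim Groth.Agent.Etcore Groth.Agent.Etcore.FGLim

section Action

variable {R : Type u} [CommRing R] {K : Type u} [Field K] [Algebra R K] {Ω : Type u} [Field Ω]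
  [Algebra K Ω] [Algebra R Ω] [IsScalarTower R K Ω]
  {X : Scheme.{u}} (f : X ⟶ Spec (CommRingCat.of R))

theorem galGeom_snd (σ : Ω ≃ₐ[K] Ω) :
    VanCyc.galGeom f σ ≫ VanCyc.fibStr R f Ω =
      VanCyc.fibStr R f Ω ≫ Spec.map (CommRingCat.ofHom (σ : Ω →+* Ω)) := by
  simp only [VanCyc.galGeom, VanCyc.fibStr, pullback.map, pullback.lift_snd]

theorem galGeom_one : VanCyc.galGeom f (1 : Ω ≃ₐ[K] Ω) = 𝟙 _ := by
  apply pullback.hom_ext
  · rw [VanCyc.galGeom_jA, Category.id_comp]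
  · rw [galGeom_snd, Category.id_comp]
    have : (CommRingCat.ofHom ((1 : Ω ≃ₐ[K] Ω) : Ω →+* Ω)) = 𝟙 _ := rfl
    rw [this, Spec.map_id]
    exact Category.comp_id _

theorem galGeom_mul (σ τ : Ω ≃ₐ[K] Ω) :
    VanCyc.galGeom f (σ * τ) = VanCyc.galGeom f σ ≫ VanCyc.galGeom f τ := by
  apply pullback.hom_ext
  · rw [VanCyc.galGeom_jA, Category.assoc, VanCyc.galGeom_jA, VanCyc.galGeom_jA]
  · rw [galGeom_snd, Category.assoc, galGeom_snd, ← Category.assoc, galGeom_snd, Category.assoc,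
      ← Spec.map_comp]
    rfl

/-- The identity acts trivially. -/
theorem galH_one [PreservesFiniteLimits (EtCoh.pull (VanCyc.galGeom f (1 : Ω ≃ₐ[K] Ω)))]
    (F : EtCoh.Ab X) (q : ℕ) :
    VanCyc.galH f (1 : Ω ≃ₐ[K] Ω) F q = AddMonoidHom.id _ := by
  ext ξ
  have key : ∀ (e : VanCyc.fib R f Ω ⟶ VanCyc.fib R f Ω) (he : e = 𝟙 _)
      (w : e ≫ VanCyc.jA R f Ω = VanCyc.jA R f Ω),
      EtCore.HpullVia e (VanCyc.jA R f Ω) (VanCyc.jA R f Ω) w F q ξ = ξ := by
    rintro e rfl w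
    exact HpullVia_id _ _ _ _ _
  exact key _ (galGeom_one f) _

/-- Multiplicativity of the action. -/
theorem galH_mul (σ τ : Ω ≃ₐ[K] Ω) [PreservesFiniteLimits (EtCoh.pull (VanCyc.galGeom f σ))]
    [PreservesFiniteLimits (EtCoh.pull (VanCyc.galGeom f τ))]
    [PreservesFiniteLimits (EtCoh.pull (VanCyc.galGeom f (σ * τ)))]
    (F : EtCoh.Ab X) (q : ℕ) (ξ : EtCoh.H (VanCyc.fib R f Ω) ((EtCoh.pull (VanCyc.jA R f Ω)).obj F) q) :
    VanCyc.galH f (σ * τ) F q ξ = VanCyc.galH f σ F q (VanCyc.galH f τ F q ξ) :=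
  (HpullVia_comp (VanCyc.galGeom f σ) (VanCyc.galGeom f τ) (VanCyc.galGeom f (σ * τ))
    (VanCyc.jA R f Ω) (VanCyc.jA R f Ω) (VanCyc.jA R f Ω) (galGeom_mul f σ τ).symm
    (VanCyc.galGeom_jA f σ) (VanCyc.galGeom_jA f τ) (VanCyc.galGeom_jA f (σ * τ)) F q ξ).symm

end Action

section Continuity

variable (R : Type u) [CommRing R] (K : Type u) [Field K] [Algebra R K] (Ω : Type u) [Field Ω]
  [Algebra K Ω] [Algebra R Ω] [IsScalarTower R K Ω]
  {X : Scheme.{u}} (f : X ⟶ Spec (CommRingCat.of R))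

/-- Structure maps over `Spec R` of the system of finitely generated subalgebras of `Ω / K`. -/
noncomputable def τ (a : (FGSub K Ω)ᵒᵖ) :
    (PullbackLim.specSys (fgSys K Ω)).obj a ⟶ Spec (CommRingCat.of R) :=
  Spec.map (CommRingCat.ofHom ((algebraMap K a.unop.1).comp (algebraMap R K)))

theorem hτ ⦃a b : (FGSub K Ω)ᵒᵖ⦄ (h : a ⟶ b) :
    (PullbackLim.specSys (fgSys K Ω)).map h ≫ τ R K Ω b = τ R K Ω a := by
  exact (Spec.map_comp _ _).symm

theorem ht (a : (FGSub K Ω)ᵒᵖ) :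
    (PullbackLim.specCone (fgSys K Ω) (fgCocone K Ω)).π.app a ≫ τ R K Ω a = VanCyc.toS R Ω := by
  refine (Spec.map_comp _ _).symm.trans ?_
  unfold VanCyc.toS
  rw [IsScalarTower.algebraMap_eq R K Ω]
  rfl

variable {R K Ω}

/-- Every class on the geometric generic fibre comes from a finitely generated subalgebra. -/
theorem exists_class_fg [QuasiCompact f] [QuasiSeparated f] (F : EtCoh.Ab X) (q : ℕ)
    (ξ : EtCoh.H (VanCyc.fib R f Ω) ((EtCoh.pull (VanCyc.jA R f Ω)).obj F) q) :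
    ∃ (B : Subalgebra K Ω) (_ : B.FG) (Y : Scheme.{u}) (s : Y ⟶ X) (r : Y ⟶ Spec (CommRingCat.of B))
      (_ : IsPullback s r f (Spec.map (CommRingCat.ofHom ((algebraMap K B).comp (algebraMap R K)))))
      (pr : VanCyc.fib R f Ω ⟶ Y) (w : pr ≫ s = VanCyc.jA R f Ω)
      (_ : pr ≫ r = VanCyc.fibStr R f Ω ≫ Spec.map (CommRingCat.ofHom (algebraMap B Ω)))
      (η : EtCoh.H Y ((EtCoh.pull s).obj F) q),
      EtCore.HpullVia pr s (VanCyc.jA R f Ω) w F q η = ξ := by
  obtain ⟨B, -, η, h⟩ := exists_class (PullbackLim.specSys (fgSys K Ω)) (τ R K Ω) (hτ R K Ω) f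
    (fun _ _ h => PullbackLim.isAffineHom_specSys (fgSys K Ω) h)
    (fun a => by have := PullbackLim.isAffine_specSys (fgSys K Ω) a; infer_instance)
    (fun a => by have := PullbackLim.isAffine_specSys (fgSys K Ω) a; infer_instance)
    (PullbackLim.specCone (fgSys K Ω) (fgCocone K Ω))
    (VanCyc.toS R Ω) (ht R K Ω)
    (PullbackLim.isLimitSpecCone _ _ (isColimitFG K Ω)) F q ⊥ ξ
  exact ⟨B.1, B.2, _, pullback.fst f (τ R K Ω (op B)), pullback.snd f (τ R K Ω (op B)),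
    IsPullback.of_hasPullback _ _,
    PullbackLim.proj _ (τ R K Ω) f _ _ (ht R K Ω) (op B),
    PullbackLim.proj_fst _ (τ R K Ω) f _ _ (ht R K Ω) (op B),
    PullbackLim.proj_snd _ (τ R K Ω) f _ _ (ht R K Ω) (op B), η, h⟩

/-- A finitely generated subalgebra of an algebraic extension lies in a finite subextension. -/
theorem exists_finite_of_fg [Algebra.IsAlgebraic K Ω] (B : Subalgebra K Ω) (hB : B.FG) :
    ∃ L : IntermediateField K Ω, FiniteDimensional K L ∧ B ≤ L.toSubalgebra := by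
  obtain ⟨s, rfl⟩ := hB
  refine ⟨IntermediateField.adjoin K (s : Set Ω), ?_, ?_⟩
  · exact IntermediateField.finiteDimensional_adjoin fun x _ => Algebra.IsIntegral.isIntegral x
  · exact Algebra.adjoin_le (IntermediateField.subset_adjoin K _)

/-- Continuity of the Galois action on cohomology. -/
theorem exists_finite_fix [Algebra.IsAlgebraic K Ω] [QuasiCompact f] [QuasiSeparated f]
    (F : EtCoh.Ab X) (q : ℕ)
    (ξ : EtCoh.H (VanCyc.fib R f Ω) ((EtCoh.pull (VanCyc.jA R f Ω)).obj F) q) :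
    ∃ (L : IntermediateField K Ω) (_ : FiniteDimensional K L), ∀ (σ : Ω ≃ₐ[K] Ω)
      [PreservesFiniteLimits (EtCoh.pull (VanCyc.galGeom f σ))], σ ∈ L.fixingSubgroup →
      VanCyc.galH f σ F q ξ = ξ := by
  obtain ⟨B, hB, Y, s, r, hY, pr, w, hr, η, rfl⟩ := exists_class_fg (K := K) f F q ξ
  obtain ⟨L, hL, hBL⟩ := exists_finite_of_fg B hB
  refine ⟨L, hL, fun σ _ hσ => ?_⟩
  have hσB : ∀ b : B, σ (b : Ω) = b := fun b => (L.mem_fixingSubgroup_iff σ).1 hσ _ (hBL b.2)
  have e : VanCyc.galGeom f σ ≫ pr = pr := by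
    apply hY.hom_ext
    · rw [Category.assoc, w, VanCyc.galGeom_jA]
    · rw [Category.assoc, hr, ← Category.assoc, galGeom_snd, Category.assoc, ← Spec.map_comp,
        ← CommRingCat.ofHom_comp]
      congr 3
      ext b
      exact hσB b
  exact HpullVia_comp (VanCyc.galGeom f σ) pr pr (VanCyc.jA R f Ω) (VanCyc.jA R f Ω) s e
    (VanCyc.galGeom_jA f σ) w w F q η

end Continuity

end Groth.Agent.Vancyc.H684.GalCont
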