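import Groth.Agent.Vancyc.H684.UnifCount
import Groth.Agent.Etcore.FEtH1
import Groth.Agent.Etcore.EtInst
import Groth.Agent.Sga5.HcConst
import Groth.Prelude.Def_LefMon
import Groth.Prelude.Def_Milnor

/-!
# The graded system `H^i(X, ℤ/ℓ^N)`

`etSys X ℓ : GSys ℓ (fun i N => H^i(X, ℤ/ℓ^N))` for every scheme `X` and `ℓ > 0`.
-/

set_option autoImplicit false
universe u

open CategoryTheory CategoryTheory.Limits AlgebraicGeometry Opposite CategoryTheory.Abelian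

namespace Groth.Agent.Vancyc.H684.UnifEt

open scoped Groth.Agent.Etcore.EtInst
open Groth.Agent.Etcore.EtInst Groth.Agent.Sga5.HcConst UnifSys

section Alg

variable (ℓ : ℕ)

/-- reduction `ℤ/ℓ^M → ℤ/ℓ^N` -/
def zr {N M : ℕ} (h : N ≤ M) : ZMod (ℓ ^ M) →+ ZMod (ℓ ^ N) :=
  (ZMod.castHom (pow_dvd_pow ℓ h) (ZMod (ℓ ^ N))).toAddMonoidHom

theorem zr_intCast {N M : ℕ} (h : N ≤ M) (a : ℤ) : zr ℓ h (a : ZMod (ℓ ^ M)) = (a : ZMod (ℓ ^ N)) :=
  map_intCast (ZMod.castHom (pow_dvd_pow ℓ h) (ZMod (ℓ ^ N))) a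

/-- multiplication by `ℓ^m`, `ℤ/ℓ^N → ℤ/ℓ^(m+N)` -/
def za (m N : ℕ) : ZMod (ℓ ^ N) →+ ZMod (ℓ ^ (m + N)) :=
  zsec (ℓ ^ N) (((ℓ ^ m : ℕ) : ZMod (ℓ ^ (m + N)))) (by
    rw [nsmul_eq_mul, ← Nat.cast_mul, ← pow_add, add_comm, ZMod.natCast_self])

theorem za_intCast (m N : ℕ) (a : ℤ) :
    za ℓ m N (a : ZMod (ℓ ^ N)) = ((a * (ℓ ^ m : ℕ) : ℤ) : ZMod (ℓ ^ (m + N))) := by
  rw [za, zsec_intCast, zsmul_eq_mul]
  push_cast
  rfl

theorem zr_refl (N : ℕ) : zr ℓ (le_refl N) = AddMonoidHom.id _ := by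
  ext x
  simp [zr]

theorem zr_trans {N M K : ℕ} (h1 : N ≤ M) (h2 : M ≤ K) :
    (zr ℓ h1).comp (zr ℓ h2) = zr ℓ (h1.trans h2) := by
  apply AddMonoidHom.ext
  intro x
  obtain ⟨a, rfl⟩ := ZMod.intCast_surjective x
  rw [AddMonoidHom.comp_apply, zr_intCast, zr_intCast, zr_intCast]

theorem zr_za (m N : ℕ) : (zr ℓ (Nat.le_add_left N m)).comp (za ℓ m N) =
    ℓ ^ m • AddMonoidHom.id _ := by
  apply AddMonoidHom.ext
  intro x
  obtain ⟨a, rfl⟩ := ZMod.intCast_surjective x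
  rw [AddMonoidHom.comp_apply, za_intCast, zr_intCast]
  change _ = ℓ ^ m • (a : ZMod (ℓ ^ N))
  rw [nsmul_eq_mul]
  push_cast
  ring

theorem za_zr (m N : ℕ) : (za ℓ m N).comp (zr ℓ (Nat.le_add_left N m)) =
    ℓ ^ m • AddMonoidHom.id _ := by
  apply AddMonoidHom.ext
  intro x
  obtain ⟨a, rfl⟩ := ZMod.intCast_surjective x
  rw [AddMonoidHom.comp_apply, zr_intCast, za_intCast]
  change _ = ℓ ^ m • (a : ZMod (ℓ ^ (m + N)))
  rw [nsmul_eq_mul]
  push_cast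
  ring

theorem za_nat (m : ℕ) {N' N : ℕ} (h : N' ≤ N) : (za ℓ m N').comp (zr ℓ h) =
    (zr ℓ (Nat.add_le_add_left h m)).comp (za ℓ m N) := by
  apply AddMonoidHom.ext
  intro x
  obtain ⟨a, rfl⟩ := ZMod.intCast_surjective x
  rw [AddMonoidHom.comp_apply, AddMonoidHom.comp_apply, zr_intCast, za_intCast, za_intCast, zr_intCast]

theorem za_injective (hℓ : 0 < ℓ) (m N : ℕ) : Function.Injective (za ℓ m N) := by
  rw [injective_iff_map_eq_zero]
  intro x hx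
  obtain ⟨a, rfl⟩ := ZMod.intCast_surjective x
  rw [za_intCast, ZMod.intCast_zmod_eq_zero_iff_dvd] at hx
  rw [ZMod.intCast_zmod_eq_zero_iff_dvd]
  have hx' : ((ℓ ^ m : ℕ) : ℤ) * ((ℓ ^ N : ℕ) : ℤ) ∣ (ℓ ^ m : ℕ) * a := by
    rw [← Nat.cast_mul, ← pow_add, mul_comm _ a]
    exact hx
  exact (mul_dvd_mul_iff_left (by exact_mod_cast (pow_pos hℓ m).ne')).1 hx'

theorem zr_surjective {N M : ℕ} (h : N ≤ M) : Function.Surjective (zr ℓ h) := by
  intro x
  obtain ⟨a, rfl⟩ := ZMod.intCast_surjective x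
  exact ⟨a, zr_intCast ℓ h a⟩

theorem zr_za_zero (m N : ℕ) (y : ZMod (ℓ ^ N)) : zr ℓ (Nat.le_add_right m N) (za ℓ m N y) = 0 := by
  obtain ⟨a, rfl⟩ := ZMod.intCast_surjective y
  rw [za_intCast, zr_intCast, ZMod.intCast_zmod_eq_zero_iff_dvd]
  exact dvd_mul_left _ _

theorem exists_za (m N : ℕ) (x : ZMod (ℓ ^ (m + N))) (hx : zr ℓ (Nat.le_add_right m N) x = 0) :
    ∃ y, za ℓ m N y = x := by
  obtain ⟨a, rfl⟩ := ZMod.intCast_surjective x
  rw [zr_intCast, ZMod.intCast_zmod_eq_zero_iff_dvd] at hx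
  obtain ⟨b, rfl⟩ := hx
  refine ⟨(b : ZMod (ℓ ^ N)), ?_⟩
  rw [za_intCast, mul_comm]

end Alg

section Const

variable (X : Scheme.{u})

/-- The map of constant sheaves attached to a homomorphism. -/
noncomputable def cm {M M' : Type} [AddCommGroup M] [AddCommGroup M'] (f : M →+ M') :
    EtCoh.const X M ⟶ EtCoh.const X M' :=
  (constantSheaf X.smallEtaleTopology AddCommGrpCat.{u + 1}).map (uliftHom f)

variable {M M' M'' : Type} [AddCommGroup M] [AddCommGroup M'] [AddCommGroup M'']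

theorem cm_comp (f : M →+ M') (g : M' →+ M'') : cm X (g.comp f) = cm X f ≫ cm X g := by
  unfold cm
  rw [uliftHom_comp, Functor.map_comp]

theorem cm_id : cm X (AddMonoidHom.id M) = 𝟙 _ := by
  unfold cm
  rw [uliftHom_id, CategoryTheory.Functor.map_id]

theorem cm_zero : cm X (0 : M →+ M') = 0 := by
  unfold cm
  rw [uliftHom_zero, Functor.map_zero]

theorem cm_add (f g : M →+ M') : cm X (f + g) = cm X f + cm X g := by
  unfold cm
  rw [uliftHom_add, Functor.map_add]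

theorem cm_nsmul_id (n : ℕ) : cm X (n • AddMonoidHom.id M) = n • 𝟙 _ := by
  induction n with
  | zero => rw [zero_smul, zero_smul, cm_zero]
  | succ n ih => rw [succ_nsmul, succ_nsmul, cm_add, ih, cm_id]

/-- The short complex of constant sheaves attached to an exact sequence. -/
noncomputable def csc (f : M →+ M') (g : M' →+ M'') (w : g.comp f = 0) : ShortComplex (EtCoh.Ab X) :=
  ShortComplex.mk (cm X f) (cm X g) (by rw [← cm_comp, w, cm_zero])

theorem csc_shortExact (f : M →+ M') (g : M' →+ M'') (w : g.comp f = 0)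
    (hf : Function.Injective f) (hg : Function.Surjective g) (h : ∀ x, g x = 0 → ∃ y, f y = x) :
    (csc X f g w).ShortExact := by
  have := Groth.Agent.Etcore.FEtH1.preservesFiniteLimits_constantSheaf X
  have := Groth.Agent.Etcore.FEtH1.preservesFiniteColimits_constantSheaf X
  let S : ShortComplex AddCommGrpCat.{u + 1} := ShortComplex.mk (uliftHom f) (uliftHom g) (by
    rw [← uliftHom_comp, w, uliftHom_zero])
  have hS : S.ShortExact :=
    { exact := by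
        rw [ShortComplex.ab_exact_iff]
        intro x hx
        obtain ⟨y, hy⟩ := h x.down (congrArg ULift.down hx)
        exact ⟨ULift.up y, ULift.down_injective hy⟩
      mono_f := by
        rw [AddCommGrpCat.mono_iff_injective]
        intro x y hxy
        exact ULift.down_injective (hf (congrArg ULift.down hxy))
      epi_g := by
        rw [AddCommGrpCat.epi_iff_surjective]
        intro y
        obtain ⟨x, hx⟩ := hg y.down
        exact ⟨ULift.up x, ULift.down_injective hx⟩ }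
  exact hS.map_of_exact (constantSheaf X.smallEtaleTopology AddCommGrpCat.{u + 1})

/-- cohomology with constant coefficients -/
noncomputable def hm (f : M →+ M') (i : ℕ) :
    HH X (EtCoh.const X M) i →+ HH X (EtCoh.const X M') i := HHmap (cm X f) i

theorem hm_comp (f : M →+ M') (g : M' →+ M'') (i : ℕ) (x : HH X (EtCoh.const X M) i) :
    hm X g i (hm X f i x) = hm X (g.comp f) i x := by
  unfold hm
  rw [cm_comp, HHmap_comp]

theorem hm_id (i : ℕ) (x : HH X (EtCoh.const X M) i) : hm X (AddMonoidHom.id M) i x = x := by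
  unfold hm
  rw [cm_id, HHmap_id]

theorem HHmap_nsmul_id {F : EtCoh.Ab X} (n i : ℕ) (x : HH X F i) : HHmap (n • 𝟙 F) i x = n • x := by
  rw [HHmap_apply]
  induction n with
  | zero => rw [zero_smul, zero_smul, Ext.mk₀_zero, Ext.comp_zero]
  | succ n ih => rw [succ_nsmul, succ_nsmul, Ext.mk₀_add, Ext.comp_add, ih, Ext.comp_mk₀_id]

theorem hm_nsmul_id (n i : ℕ) (x : HH X (EtCoh.const X M) i) :
    hm X (n • AddMonoidHom.id M) i x = n • x := by
  unfold hm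
  rw [cm_nsmul_id, HHmap_nsmul_id]

end Const

section ExtLemmas

variable {C : Type*} [Category C] [Abelian C] [HasExt.{u + 1} C] {Z : C}

theorem ext_g_class {S : ShortComplex C} (hS : S.ShortExact) {n : ℕ} (x : Ext.{u + 1} Z S.X₂ n) :
    (x.comp (Ext.mk₀ S.g) (add_zero n)).comp hS.extClass (rfl : n + 1 = n + 1) = 0 := by
  rw [Ext.comp_assoc_of_second_deg_zero, hS.comp_extClass, Ext.comp_zero]

theorem ext_class_f {S : ShortComplex C} (hS : S.ShortExact) {n : ℕ} (x : Ext.{u + 1} Z S.X₃ n) :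
    (x.comp hS.extClass (rfl : n + 1 = n + 1)).comp (Ext.mk₀ S.f) (add_zero (n + 1)) = 0 := by
  rw [Ext.comp_assoc_of_third_deg_zero, hS.extClass_comp, Ext.comp_zero]

theorem ext_class_nat {S₁ S₂ : ShortComplex C} (h₁ : S₁.ShortExact) (h₂ : S₂.ShortExact)
    (f : S₁ ⟶ S₂) {n : ℕ} (x : Ext.{u + 1} Z S₁.X₃ n) :
    (x.comp h₁.extClass (rfl : n + 1 = n + 1)).comp (Ext.mk₀ f.τ₁) (add_zero (n + 1)) =
      (x.comp (Ext.mk₀ f.τ₃) (add_zero n)).comp h₂.extClass (rfl : n + 1 = n + 1) := by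
  rw [Ext.comp_assoc_of_third_deg_zero, ShortComplex.ShortExact.extClass_naturality h₁ h₂,
    Ext.comp_assoc_of_second_deg_zero]

end ExtLemmas

section Sys

variable (X : Scheme.{u}) (ℓ : ℕ)

theorem w (m N : ℕ) : (zr ℓ (Nat.le_add_right m N)).comp (za ℓ m N) = 0 :=
  AddMonoidHom.ext fun y => zr_za_zero ℓ m N y

/-- `0 → ℤ/ℓ^N → ℤ/ℓ^(m+N) → ℤ/ℓ^m → 0` -/
noncomputable abbrev sc (m N : ℕ) : ShortComplex (EtCoh.Ab X) :=
  csc X (za ℓ m N) (zr ℓ (Nat.le_add_right m N)) (w ℓ m N)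

theorem hsc (hℓ : 0 < ℓ) (m N : ℕ) : (sc X ℓ m N).ShortExact :=
  csc_shortExact X _ _ _ (za_injective ℓ hℓ m N) (zr_surjective ℓ _) (exists_za ℓ m N)

/-- Naturality of the short exact sequences. -/
noncomputable def scMap (m : ℕ) {N' N : ℕ} (h : N' ≤ N) : sc X ℓ m N ⟶ sc X ℓ m N' where
  τ₁ := cm X (zr ℓ h)
  τ₂ := cm X (zr ℓ (Nat.add_le_add_left h m))
  τ₃ := 𝟙 _
  comm₁₂ := by
    change cm X (zr ℓ h) ≫ cm X (za ℓ m N') = cm X (za ℓ m N) ≫ cm X (zr ℓ _)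
    rw [← cm_comp, ← cm_comp, za_nat]
  comm₂₃ := by
    change cm X (zr ℓ _) ≫ cm X (zr ℓ _) = cm X (zr ℓ _) ≫ 𝟙 _
    rw [← cm_comp, zr_trans, Category.comp_id]

/-- connecting map -/
noncomputable def hd (hℓ : 0 < ℓ) (i m N : ℕ) :
    HH X (EtCoh.const X (ZMod (ℓ ^ m))) i →+ HH X (EtCoh.const X (ZMod (ℓ ^ N))) (i + 1) :=
  (hsc X ℓ hℓ m N).extClass.postcomp _ rfl

/-- **The graded system `H^i(X, ℤ/ℓ^N)`.** -/
noncomputable def etSys (hℓ : 0 < ℓ) : GSys ℓ (fun i N => HH X (EtCoh.const X (ZMod (ℓ ^ N))) i) where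
  r i _ _ h := hm X (zr ℓ h) i
  α i m N := hm X (za ℓ m N) i
  δ i m N := hd X ℓ hℓ i m N
  r_refl i N x := by rw [zr_refl, hm_id]
  r_trans i N M K h1 h2 x := by rw [hm_comp, zr_trans]
  r_α i m N y := by rw [hm_comp, zr_za, hm_nsmul_id]
  α_r i m N x := by rw [hm_comp, za_zr, hm_nsmul_id]
  nat_α i m N' N h y := by rw [hm_comp, hm_comp, za_nat]
  nat_δ i m N' N h z := by
    refine (ext_class_nat (hsc X ℓ hℓ m N) (hsc X ℓ hℓ m N') (scMap X ℓ m h) z).trans ?_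
    exact congrArg (hd X ℓ hℓ i m N') (HHmap_id _ _ z)
  kill i N x := by
    rw [← hm_nsmul_id]
    have : ℓ ^ N • AddMonoidHom.id (ZMod (ℓ ^ N)) = 0 := by
      apply AddMonoidHom.ext
      intro x
      change ℓ ^ N • x = 0
      rw [nsmul_eq_mul, ZMod.natCast_self, zero_mul]
    rw [this]
    unfold hm
    rw [cm_zero, HHmap_apply, Ext.mk₀_zero, Ext.comp_zero]
  ex2 i m N x := by
    constructor
    · intro hx
      exact Ext.covariant_sequence_exact₂ _ (hsc X ℓ hℓ m N) x hx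
    · rintro ⟨y, rfl⟩
      rw [hm_comp, w]
      unfold hm
      rw [cm_zero, HHmap_apply, Ext.mk₀_zero, Ext.comp_zero]
  ex3 i m N z := by
    constructor
    · intro hz
      exact Ext.covariant_sequence_exact₃ _ (hsc X ℓ hℓ m N) z rfl hz
    · rintro ⟨x, rfl⟩
      exact ext_g_class (hsc X ℓ hℓ m N) x
  ex1 i m N y := by
    constructor
    · intro hy
      exact Ext.covariant_sequence_exact₁ _ (hsc X ℓ hℓ m N) y hy rfl
    · rintro ⟨z, rfl⟩
      exact ext_class_f (hsc X ℓ hℓ m N) z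
  inj m N := by
    have := (hsc X ℓ hℓ m N).mono_f
    exact Ext.postcomp_mk₀_injective_of_mono (EtCoh.const X ℤ) (sc X ℓ m N).f

/-- `H^i(X, F)` with the instances of the prelude and with the short instances. -/
noncomputable def toHH (F : EtCoh.Ab X) (n : ℕ) : EtCoh.H X F n ≃+ HH X F n := AddEquiv.refl _

/-- **Uniform ranks of `H^i(X, ℤ/ℓ^N)`.** -/
theorem exists_rank_HH (hℓ : ℓ.Prime) (D : ℕ)
    (hfin : ∀ i N : ℕ, Finite (HH X (EtCoh.const X (ZMod (ℓ ^ N))) i))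
    (hD : ∀ i N : ℕ, D < i → Subsingleton (HH X (EtCoh.const X (ZMod (ℓ ^ N))) i)) :
    ∃ (b : ℕ → ℕ) (c C : ℕ), 0 < C ∧ (∀ i, D < i → b i = 0) ∧
      UnifCount.Ranks ℓ (fun i N => HH X (EtCoh.const X (ZMod (ℓ ^ N))) i) b c C ∧
      ∑ i ∈ Finset.range (D + 1), (-1 : ℤ) ^ i * (b i : ℤ) =
        ∑ i ∈ Finset.range (D + 1), (-1 : ℤ) ^ i *
          (Nat.log ℓ (Nat.card (HH X (EtCoh.const X (ZMod (ℓ ^ 1))) i)) : ℤ) :=
  UnifCount.exists_rank (etSys X ℓ hℓ.pos) hℓ D hD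

/-- **Uniform ranks of `H^i(X, ℤ/ℓ^N)`.** -/
theorem exists_rank (hℓ : ℓ.Prime) (D : ℕ)
    (hfin : ∀ i N : ℕ, Finite (EtCoh.H X (EtCoh.const X (ZMod (ℓ ^ N))) i))
    (hD : ∀ i N : ℕ, D < i → Subsingleton (EtCoh.H X (EtCoh.const X (ZMod (ℓ ^ N))) i)) :
    ∃ (b : ℕ → ℕ) (c C : ℕ), 0 < C ∧ (∀ i, D < i → b i = 0) ∧
      UnifCount.Ranks ℓ (fun i N => EtCoh.H X (EtCoh.const X (ZMod (ℓ ^ N))) i) b c C ∧
      ∑ i ∈ Finset.range (D + 1), (-1 : ℤ) ^ i * (b i : ℤ) = VanCyc.euler ℓ X D := by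
  obtain ⟨b, c, C, h1, h2, h3, h4⟩ := exists_rank_HH X ℓ hℓ D
    (fun i N => Finite.of_equiv _ (toHH X _ i).toEquiv)
    (fun i N hi => by
      have := hD i N hi
      exact (toHH X _ i).symm.toEquiv.subsingleton)
  refine ⟨b, c, C, h1, h2, h3.congr fun i N => (toHH X _ i).symm, h4.trans ?_⟩
  unfold VanCyc.euler VanCyc.hdim
  refine Finset.sum_congr rfl fun i _ => ?_
  rw [Nat.card_congr (toHH X (EtCoh.const X (ZMod (ℓ ^ 1))) i).symm.toEquiv, pow_one]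

end Sys

end Groth.Agent.Vancyc.H684.UnifEt
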