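import Groth.Agent.Vancyc.H684.Kummer
import Groth.Agent.Vancyc.H684.GalCont
import Groth.Agent.Etrest.ConstBasic
import Mathlib.AlgebraicGeometry.Morphisms.Proper

/-!
# Unipotent inertia action of echelon two is tame and given by Kummer characters

`galH_eq_id`: let `f : X ⟶ Spec R` be quasi-compact and quasi-separated over a strictly henselian
trait, `N` invertible in `R`, `F` an abelian sheaf on `X` with `N • 𝟙 F = 0`. Suppose that the
composite of `σ - 1` and `τ - 1` vanishes on `H^q(X_Ω, F)` for all `σ, τ ∈ Gal(Ω/K)`. Then every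
`σ` fixing an `N`-th root of a uniformiser acts trivially on `H^q(X_Ω, F)`.
-/

set_option autoImplicit false
set_option linter.unusedSectionVars false

open CategoryTheory CategoryTheory.Limits AlgebraicGeometry Opposite
open CategoryTheory.Abelian

universe u

namespace Groth.Agent.Vancyc.H684.Tame

open Groth.Agent.EtpbcB.HRel

/-- Classes with values in a sheaf killed by `n` are killed by `n`. -/
theorem nsmul_ext_eq_zero {X : Scheme.{u}} {F : EtCoh.Ab X} {n : ℕ} (hF : n • 𝟙 F = 0)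
    {A : EtCoh.Ab X} {q : ℕ} (x : Abelian.Ext A F q) : n • x = 0 := by
  have h2 : ∀ m : ℕ, m • x = x.comp (Abelian.Ext.mk₀ (m • 𝟙 F)) (add_zero q) := by
    intro m
    induction m with
    | zero => rw [zero_nsmul, zero_nsmul, Abelian.Ext.mk₀_zero, Abelian.Ext.comp_zero]
    | succ m ih =>
      rw [succ_nsmul, ih, succ_nsmul, Abelian.Ext.mk₀_add, Abelian.Ext.comp_add,
        Abelian.Ext.comp_mk₀_id]
  rw [h2, hF, Abelian.Ext.mk₀_zero, Abelian.Ext.comp_zero]

theorem nsmul_id_pull {X Y : Scheme.{u}} (f : X ⟶ Y) {F : EtCoh.Ab Y} {n : ℕ} (hF : n • 𝟙 F = 0) :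
    n • 𝟙 ((EtCoh.pull f).obj F) = 0 := by
  rw [← CategoryTheory.Functor.map_id, ← Functor.map_nsmul, hF, Functor.map_zero]

theorem nsmul_id_of_killedBy {X : Scheme.{u}} {F : EtCoh.Ab X} {n : ℕ} (hF : EtCoh.KilledBy n F) :
    n • 𝟙 F = 0 := by
  apply Sheaf.hom_ext
  ext U s
  exact hF U.unop s

variable (R K Ω : Type u) [CommRing R] [IsDomain R] [IsDiscreteValuationRing R]
  (hR : EtCoh.IsStrictlyHenselianLocalRing R) [Field K] [Algebra R K] [IsFractionRing R K]
  [Field Ω] [Algebra K Ω] [IsSepClosure K Ω] [Algebra R Ω] [IsScalarTower R K Ω]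

include hR in
/-- Unipotent action of echelon two is tame, through Kummer characters. -/
theorem galH_eq_id {X : Scheme.{u}} (f : X ⟶ Spec (CommRingCat.of R)) [QuasiCompact f]
    [QuasiSeparated f] (F : EtCoh.Ab X) (N : ℕ) (hN : IsUnit (N : R)) (hF : EtCoh.KilledBy N F)
    (q : ℕ)
    (h : ∀ (σ τ : Ω ≃ₐ[K] Ω) [PreservesFiniteLimits (EtCoh.pull (VanCyc.galGeom f σ))]
      [PreservesFiniteLimits (EtCoh.pull (VanCyc.galGeom f τ))],
      (VanCyc.galH f σ F q - AddMonoidHom.id _).comp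
        (VanCyc.galH f τ F q - AddMonoidHom.id _) = 0)
    (t : R) (ht : Irreducible t) (σ : Ω ≃ₐ[K] Ω)
    [PreservesFiniteLimits (EtCoh.pull (VanCyc.galGeom f σ))]
    (hσ : VanCyc.FixesRoot N (algebraMap R K t) σ) :
    VanCyc.galH f σ F q = AddMonoidHom.id _ := by
  ext ξ
  have h' : ∀ (s t : Ω ≃ₐ[K] Ω) (ξ : EtCoh.H (VanCyc.fib R f Ω) ((EtCoh.pull (VanCyc.jA R f Ω)).obj F) q),
      VanCyc.galH f s F q (VanCyc.galH f t F q ξ - ξ) = VanCyc.galH f t F q ξ - ξ := by
    intro s t ξ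
    have := DFunLike.congr_fun (h s t) ξ
    exact sub_eq_zero.1 this
  obtain ⟨L, hL, hfix⟩ := GalCont.exists_finite_fix (K := K) (Ω := Ω) f F q ξ
  let φ : (Ω ≃ₐ[K] Ω) →* Multiplicative
      (EtCoh.H (VanCyc.fib R f Ω) ((EtCoh.pull (VanCyc.jA R f Ω)).obj F) q) :=
    MonoidHom.mk' (fun s => Multiplicative.ofAdd (VanCyc.galH f s F q ξ - ξ)) (by
      intro s t
      rw [← ofAdd_add, GalCont.galH_mul]
      congr 1
      have h1 := h' s t ξ
      rw [map_sub] at h1
      rw [← sub_add_sub_cancel _ (VanCyc.galH f s F q ξ) ξ, h1, add_comm])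
  have hφ := Kummer.apply_eq_one R K Ω hR (A := Multiplicative
      (EtCoh.H (VanCyc.fib R f Ω) ((EtCoh.pull (VanCyc.jA R f Ω)).obj F) q)) N hN ht
    (fun a => by
      have := nsmul_ext_eq_zero (nsmul_id_pull (VanCyc.jA R f Ω) (nsmul_id_of_killedBy hF))
        (A := EtCoh.const _ ℤ) (q := q) a.toAdd
      exact this) φ L
    (fun g hg => by
      change Multiplicative.ofAdd (VanCyc.galH f g F q ξ - ξ) = 1
      rw [hfix g hg, sub_self, ofAdd_zero]) σ hσ
  have h2 : VanCyc.galH f σ F q ξ - ξ = 0 := hφ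
  exact sub_eq_zero.1 h2

end Groth.Agent.Vancyc.H684.Tame
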