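import Groth.Agent.Vancyc.H684.UnifEt
import Groth.Agent.Sga5.H844.ProdCount
import Mathlib.Algebra.Group.Shrink

/-!
# Counting `H^D(X × X, ℤ/ℓ^N)` up to bounded errors
-/

set_option autoImplicit false
universe u

open CategoryTheory CategoryTheory.Limits AlgebraicGeometry Opposite CategoryTheory.Abelian

namespace Groth.Agent.Vancyc.H684.B1Cnt

open scoped Groth.Agent.Etcore.EtInst
open Groth.Agent.Etcore.EtInst Groth.Agent.Sga5.HcConst UnifEt UnifSys
open Groth.Agent.Sga5.H844.CountAbs Groth.Agent.Sga5.H844.CountEt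

section Dev

variable (X : Scheme.{u})

theorem subsingleton_HH (B : Type) [AddCommGroup B] [Subsingleton B] (j : ℕ) :
    Subsingleton (HH X (EtCoh.const X B) j) := by
  refine ⟨fun x y => ?_⟩
  have h : ∀ z : HH X (EtCoh.const X B) j, z = 0 := by
    intro z
    rw [← hm_id X j z, show AddMonoidHom.id B = 0 from AddMonoidHom.ext fun b =>
      Subsingleton.elim _ _]
    unfold hm
    rw [cm_zero, HHmap_apply, Ext.mk₀_zero, Ext.comp_zero]
  rw [h x, h y]

variable {X}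

theorem exists_order {ℓ : ℕ} (B : Type) [AddCommGroup B] (m : ℕ) (x : B)
    (hx : x ≠ 0) (hm : ℓ ^ m • x = 0) : ∃ y : B, y ≠ 0 ∧ ℓ • y = 0 := by
  induction m generalizing x with
  | zero => exact absurd (by simpa using hm) hx
  | succ m ih =>
    by_cases h : ℓ • x = 0
    · exact ⟨x, hx, h⟩
    · exact ih (ℓ • x) h (by rw [← mul_smul, ← pow_succ, hm])

theorem zsec_injective {ℓ : ℕ} (hℓ : ℓ.Prime) {B : Type} [AddCommGroup B] (y : B) (hy : y ≠ 0)
    (h : ℓ • y = 0) : Function.Injective (zsec ℓ y h) := by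
  have : Fact ℓ.Prime := ⟨hℓ⟩
  rw [injective_iff_map_eq_zero]
  intro a ha
  by_contra hne
  apply hy
  obtain ⟨c, hc⟩ := ZMod.intCast_surjective (a⁻¹)
  have h1 : zsec ℓ y h (c • a) = 0 := by rw [map_zsmul, ha, smul_zero]
  rw [zsmul_eq_mul, hc, inv_mul_cancel₀ hne] at h1
  have h2 := zsec_intCast ℓ y h 1
  rw [Int.cast_one, one_zsmul] at h2
  rw [← h2, h1]

/-- A finite `ℓ`-group of coefficients of order at most `s`. -/
theorem cardLE_const_finite {ℓ : ℕ} (hℓ : ℓ.Prime) {h j : ℕ} (h1 : 1 ≤ h)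
    (hh : CardLE (HH X (EtCoh.const X (ZMod ℓ)) j) h) (s : ℕ) :
    ∀ (B : Type) [AddCommGroup B] [Finite B] (m : ℕ), (∀ x : B, ℓ ^ m • x = 0) → Nat.card B ≤ s →
      CardLE (HH X (EtCoh.const X B) j) (h ^ s) := by
  induction s with
  | zero =>
    intro B _ _ m _ hs
    exact absurd Nat.card_pos (by omega : ¬ 0 < Nat.card B)
  | succ s ih =>
    intro B _ _ m hm hs
    rcases subsingleton_or_nontrivial B with hB | hB
    · exact (CardLE.of_subsingleton (subsingleton_HH X B j)).mono (Nat.one_le_pow _ _ h1)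
    · obtain ⟨x, hx⟩ := exists_ne (0 : B)
      obtain ⟨y, hy, hy'⟩ := exists_order B m x hx (hm x)
      let f := zsec ℓ y hy'
      have hf : Function.Injective f := zsec_injective hℓ y hy hy'
      let g : B →+ B ⧸ f.range := QuotientAddGroup.mk' f.range
      have hg : Function.Surjective g := QuotientAddGroup.mk'_surjective _
      have hex : ∀ x, g x = 0 → ∃ y, f y = x := fun x hx =>
        (QuotientAddGroup.eq_zero_iff x).1 hx
      have hw : g.comp f = 0 := AddMonoidHom.ext fun a =>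
        (QuotientAddGroup.eq_zero_iff _).2 ⟨a, rfl⟩
      have hcard : Nat.card B = Nat.card (B ⧸ f.range) * Nat.card f.range :=
        AddSubgroup.card_eq_card_quotient_mul_card_addSubgroup f.range
      have hr : 2 ≤ Nat.card f.range := by
        have h3 : Nat.card f.range = ℓ := by
          rw [← Nat.card_congr (AddMonoidHom.ofInjective hf).toEquiv, Nat.card_zmod]
        rw [h3]; exact hℓ.two_le
      have hq : 0 < Nat.card (B ⧸ f.range) := Nat.card_pos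
      have hle : Nat.card (B ⧸ f.range) ≤ s := by
        nlinarith
      have hc := ih (B ⧸ f.range) m (fun x => by
        obtain ⟨b, rfl⟩ := hg x
        rw [← map_nsmul, hm, map_zero]) hle
      have := cardLE_mid (csc_shortExact X f g hw hf hg hex) (EtCoh.const X ℤ) j hh hc
      exact this.mono (by rw [pow_succ, mul_comm])

/-- Coefficients in a group close to `(ℤ/n)^b`. -/
theorem cardLE_const_appr {ℓ : ℕ} (hℓ : ℓ.Prime) {h j : ℕ} (h1 : 1 ≤ h)
    (hh : ∀ i, CardLE (HH X (EtCoh.const X (ZMod ℓ)) i) h) (N b q C A : ℕ) (hq : 0 < q)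
    (M : Type) [AddCommGroup M] [Finite M] (hM : ∀ x : M, ℓ ^ N • x = 0)
    (u : (Fin b → ZMod (ℓ ^ N)) →+ M) (v : M →+ (Fin b → ZMod (ℓ ^ N)))
    (hvu : ∀ x, v (u x) = q • x) (hcard : Nat.card M ≤ C * (ℓ ^ N) ^ b)
    (hA : CardLE (HH X (EtCoh.const X (ZMod (ℓ ^ N))) j) A) :
    CardLE (HH X (EtCoh.const X M) j) (A ^ b * h ^ (q ^ b) * h ^ (C * q ^ b)) := by
  have hne : NeZero (ℓ ^ N) := ⟨(Nat.pow_pos hℓ.pos).ne'⟩
  have hkill : ∀ x : Fin b → ZMod (ℓ ^ N), ℓ ^ N • x = 0 := by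
    intro x
    funext i
    rw [Pi.smul_apply, nsmul_eq_mul, ZMod.natCast_self, zero_mul]
    rfl
  -- the kernel
  let K := u.ker
  have hK1 : ∀ x : K, ℓ ^ N • x = 0 := fun x => Subtype.ext (hkill x.1)
  have hK2 : Nat.card K ≤ q ^ b := by
    refine le_trans ?_ (UnifCount.card_tor_pi_le (ℓ ^ N) q b hq)
    refine Nat.card_le_card_of_injective (fun x : K => (⟨x.1, by
      rw [UnifCount.mem_tor, ← hvu, (u.mem_ker).1 x.2, map_zero]⟩ :
      UnifCount.tor (Fin b → ZMod (ℓ ^ N)) q)) fun x y hxy => Subtype.ext ?_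
    have := congrArg (fun t => t.1) hxy
    exact this
  have cK : CardLE (HH X (EtCoh.const X K) (j + 1)) (h ^ (q ^ b)) :=
    cardLE_const_finite hℓ h1 (hh (j + 1)) _ K N hK1 hK2
  -- the image
  let R := u.range
  have hR : (ℓ ^ N) ^ b ≤ q ^ b * Nat.card R := by
    have h2 := UnifCount.card_le_of_exact (G := K) (fun x => x.1) u.rangeRestrict
      (fun x hx => ⟨⟨x, congrArg Subtype.val hx⟩, rfl⟩)
    rw [Nat.card_pi, Finset.prod_const, Finset.card_univ, Fintype.card_fin, Nat.card_zmod] at h2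
    exact h2.trans (Nat.mul_le_mul_right _ hK2)
  have hQ2 : Nat.card (M ⧸ R) ≤ C * q ^ b := by
    have h3 : Nat.card M = Nat.card (M ⧸ R) * Nat.card R :=
      AddSubgroup.card_eq_card_quotient_mul_card_addSubgroup R
    have h4 : 0 < Nat.card R := Nat.card_pos
    refine Nat.le_of_mul_le_mul_right ?_ h4
    calc Nat.card (M ⧸ R) * Nat.card R = Nat.card M := h3.symm
      _ ≤ C * (ℓ ^ N) ^ b := hcard
      _ ≤ C * (q ^ b * Nat.card R) := Nat.mul_le_mul_left _ hR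
      _ = C * q ^ b * Nat.card R := (mul_assoc _ _ _).symm
  have hQ1 : ∀ x : M ⧸ R, ℓ ^ N • x = 0 := by
    intro x
    obtain ⟨y, rfl⟩ := QuotientAddGroup.mk'_surjective R x
    rw [← map_nsmul, hM, map_zero]
  have cQ : CardLE (HH X (EtCoh.const X (M ⧸ R)) j) (h ^ (C * q ^ b)) :=
    cardLE_const_finite hℓ h1 (hh j) _ (M ⧸ R) N hQ1 hQ2
  -- first sequence
  have s1 := csc_shortExact X K.subtype u.rangeRestrict (AddMonoidHom.ext fun x =>
    Subtype.ext ((u.mem_ker).1 x.2)) K.subtype_injective u.rangeRestrict_surjective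
    (fun x hx => ⟨⟨x, congrArg Subtype.val hx⟩, rfl⟩)
  have cR : CardLE (HH X (EtCoh.const X R) j) (A ^ b * h ^ (q ^ b)) := by
    have c1 : CardLE (HH X (EtCoh.const X (Fin b → ZMod (ℓ ^ N))) j) (A ^ b) :=
      cardLE_H_const_pi X (ZMod (ℓ ^ N)) b j hA
    refine CardLE.of_exact (fun x : HH X (EtCoh.const X (Fin b → ZMod (ℓ ^ N))) j =>
      x.comp (Ext.mk₀ (cm X u.rangeRestrict)) (add_zero j))
      (s1.extClass.postcomp (EtCoh.const X ℤ) (rfl : j + 1 = j + 1)) c1 cK fun x hx => ?_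
    obtain ⟨y, hy⟩ := Ext.covariant_sequence_exact₃ (EtCoh.const X ℤ) s1 x rfl hx
    exact ⟨y, hy⟩
  -- second sequence
  have s2 := csc_shortExact X R.subtype (QuotientAddGroup.mk' R) (AddMonoidHom.ext fun x =>
    (QuotientAddGroup.eq_zero_iff _).2 x.2) R.subtype_injective (QuotientAddGroup.mk'_surjective R)
    (fun x hx => ⟨⟨x, (QuotientAddGroup.eq_zero_iff x).1 hx⟩, rfl⟩)
  exact cardLE_mid s2 (EtCoh.const X ℤ) j cR cQ

end Dev

section Main

/-- The constant in the bound. -/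
noncomputable def KK (b : ℕ → ℕ) (q C h i : ℕ) : ℕ := C ^ b i * h ^ (q ^ b i) * h ^ (C * q ^ b i)

/-- **`|H^D(X × X, ℤ/ℓ^N)| ≤ C₂ · (ℓ^N)^(∑ b_i b_(D-i))`.** -/
theorem cardLE_prod {k : Type u} [Field k] [IsAlgClosed k] {X : Scheme.{u}}
    (f : X ⟶ Spec (CommRingCat.of k)) [IsProper f] {ℓ : ℕ} (hℓ : ℓ.Prime) (D : ℕ)
    (hfin : ∀ i N : ℕ, Finite (EtCoh.H X (EtCoh.const X (ZMod (ℓ ^ N))) i))
    {b : ℕ → ℕ} {c C : ℕ} (hC : 0 < C) (hb : ∀ i, D < i → b i = 0)
    (hR : UnifCount.Ranks ℓ (fun i N => EtCoh.H X (EtCoh.const X (ZMod (ℓ ^ N))) i) b c C) :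
    ∃ C₂ : ℕ, ∀ N : ℕ, CardLE (EtCoh.H (pullback f f) (EtCoh.const (pullback f f) (ZMod (ℓ ^ N))) D)
      (C₂ * (ℓ ^ N) ^ (∑ i ∈ Finset.range (D + 1), b i * b (D - i))) := by
  have hℓ0 := hℓ.pos
  obtain ⟨h, h1, hh⟩ : ∃ h : ℕ, 1 ≤ h ∧ ∀ i, CardLE (HH X (EtCoh.const X (ZMod ℓ)) i) h := by
    refine ⟨C * ℓ ^ (∑ i ∈ Finset.range (D + 1), b i),
      Nat.mul_pos hC (Nat.pow_pos hℓ0), fun i => ?_⟩
    have h2 : CardLE (EtCoh.H X (EtCoh.const X (ZMod (ℓ ^ 1))) i) (C * (ℓ ^ 1) ^ b i) :=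
      ⟨hfin i 1, hR.le i 1⟩
    have h3 : b i ≤ ∑ i ∈ Finset.range (D + 1), b i := by
      rcases Nat.lt_or_ge D i with hi | hi
      · rw [hb i hi]; exact Nat.zero_le _
      · exact Finset.single_le_sum (f := b) (fun _ _ => Nat.zero_le _)
          (Finset.mem_range.2 (by omega))
    rw [pow_one] at h2
    exact h2.mono (Nat.mul_le_mul_left _ (Nat.pow_le_pow_right hℓ0 h3))
  refine ⟨∏ i ∈ Finset.range (D + 1), KK b (ℓ ^ c) C h i, fun N => ?_⟩
  have key := cardLE_H_of_leray (pullback.snd f f) (EtCoh.const (pullback f f) (ZMod (ℓ ^ N))) D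
    (fun i => KK b (ℓ ^ c) C h i * (ℓ ^ N) ^ (b i * b (D - i))) fun i hi => ?_
  · rw [Finset.prod_mul_distrib, Finset.prod_pow_eq_pow_sum] at key
    exact key
  · have hf := hfin i N
    have hsm : Small.{0} (EtCoh.H X (EtCoh.const X (ZMod (ℓ ^ N))) i) := inferInstance
    let e : EtCoh.H X (EtCoh.const X (ZMod (ℓ ^ N))) i ≃+
        Shrink.{0} (EtCoh.H X (EtCoh.const X (ZMod (ℓ ^ N))) i) := (Shrink.addEquiv).symm
    have hne : ℓ ^ N ≠ 0 := (Nat.pow_pos hℓ0).ne'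
    obtain ⟨r⟩ := Groth.Agent.Sga5.H844.ProdCount.nonempty_Rpush_snd f f (ℓ ^ N) hne i _ e
    refine cardLE_H_iso r.symm (D - i) ?_
    have hfM : Finite (Shrink.{0} (EtCoh.H X (EtCoh.const X (ZMod (ℓ ^ N))) i)) :=
      Finite.of_equiv _ e.toEquiv
    obtain ⟨u, v, hvu, huv⟩ := hR.uv i N
    have hA : CardLE (HH X (EtCoh.const X (ZMod (ℓ ^ N))) (D - i)) (C * (ℓ ^ N) ^ b (D - i)) :=
      ⟨hfin (D - i) N, hR.le (D - i) N⟩
    have h5 := cardLE_const_appr hℓ h1 hh N (b i) (ℓ ^ c) C _ (Nat.pow_pos hℓ0)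
      (Shrink.{0} (EtCoh.H X (EtCoh.const X (ZMod (ℓ ^ N))) i))
      (fun x => by
        have h6 : ℓ ^ N • e.symm x = 0 := by
          have h7 := (etSys X ℓ hℓ0).kill i N (e.symm x)
          exact h7
        rw [← map_nsmul] at h6
        exact (map_eq_zero_iff e.symm e.symm.injective).1 h6)
      (e.toAddMonoidHom.comp u) (v.comp e.symm.toAddMonoidHom) (fun x => by
        change v (e.symm (e (u x))) = _
        rw [AddEquiv.symm_apply_apply, hvu])
      (by rw [← Nat.card_congr e.toEquiv]; exact hR.le i N) hA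
    refine CardLE.mono h5 (le_of_eq ?_)
    change (C * (ℓ ^ N) ^ b (D - i)) ^ b i * h ^ ((ℓ ^ c) ^ b i) * h ^ (C * (ℓ ^ c) ^ b i) =
      C ^ b i * h ^ ((ℓ ^ c) ^ b i) * h ^ (C * (ℓ ^ c) ^ b i) * (ℓ ^ N) ^ (b i * b (D - i))
    rw [mul_pow, ← pow_mul (ℓ ^ N) (b (D - i)) (b i), mul_comm (b (D - i)) (b i)]
    ring

end Main

end Groth.Agent.Vancyc.H684.B1Cnt
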