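import Mathlib.Algebra.Homology.ShortComplex.ExactFunctor
import Mathlib.CategoryTheory.Abelian.Refinements
import Mathlib.Algebra.Homology.ShortComplex.ShortExact
import Mathlib.CategoryTheory.Limits.Preserves.Finite

/-!
# Flat objects for a symmetric right exact bifunctor with enough flat objects

`T : A ⥤ A ⥤ A`, right exact in both variables, `Fl K := PreservesFiniteLimits (T.obj K)`.  If every
object is a quotient of a `P` with `T.obj P` and `T.flip.obj P` left exact, then
* `shortExact_flip`: `0 → K' → E → K → 0` stays exact after `- ⊗ M` if `K` is flat;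
* `flat_kernel`: `K'` is flat if `E` and `K` are.
-/

set_option autoImplicit false

universe v u

open CategoryTheory CategoryTheory.Limits

namespace Groth.Agent.Vancyc.H684.FlatAbs

variable {A : Type u} [Category.{v} A] [Abelian A] (T : A ⥤ A ⥤ A)
  [∀ K, (T.obj K).Additive] [∀ K, PreservesFiniteColimits (T.obj K)]
  [∀ M, (T.flip.obj M).Additive] [∀ M, PreservesFiniteColimits (T.flip.obj M)]
  (henough : ∀ M : A, ∃ (P : A) (p : P ⟶ M), Epi p ∧ PreservesFiniteLimits (T.flip.obj P))

theorem map_exact (F : A ⥤ A) [F.Additive] [PreservesFiniteColimits F] {S : ShortComplex A}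
    (hS : S.ShortExact) : (S.map F).Exact ∧ Epi (S.map F).g := by
  have h := (F.preservesFiniteColimits_tfae.out 3 0).1 (inferInstance : PreservesFiniteColimits F)
  exact h S hS

theorem lift_refine (F : A ⥤ A) [F.Additive] [PreservesFiniteColimits F] {S : ShortComplex A}
    (hS : S.ShortExact) {B : A} (y : B ⟶ F.obj S.X₂) (hy : y ≫ F.map S.g = 0) :
    ∃ (B' : A) (p : B' ⟶ B) (_ : Epi p) (z : B' ⟶ F.obj S.X₁), p ≫ y = z ≫ F.map S.f := by
  obtain ⟨B', p, hp, z, hz⟩ := (map_exact F hS).1.exact_up_to_refinements y hy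
  exact ⟨B', p, hp, z, hz⟩

include henough in
/-- Tensoring a short exact sequence with flat quotient. -/
theorem mono_map_app {S : ShortComplex A} (hS : S.ShortExact)
    [PreservesFiniteLimits (T.obj S.X₃)] (M : A) : Mono ((T.map S.f).app M) := by
  obtain ⟨P, π, hπ, hP⟩ := henough M
  have hR : (ShortComplex.mk _ _ (kernel.condition π)).ShortExact :=
    { exact := ShortComplex.exact_kernel π }
  have hP' : (S.map (T.flip.obj P)).ShortExact := hS.map_of_exact (T.flip.obj P)
  have hfP : Mono ((T.map S.f).app P) := hP'.mono_f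
  have hK : Mono ((T.obj S.X₃).map (kernel.ι π)) := (hR.map_of_exact (T.obj S.X₃)).mono_f
  rw [Preadditive.mono_iff_cancel_zero]
  intro A₀ a ha
  have hepi : Epi ((T.obj S.X₁).map π) := (map_exact (T.obj S.X₁) hR).2
  obtain ⟨A₁, p₁, hp₁, a₁, h₁⟩ := surjective_up_to_refinements_of_epi ((T.obj S.X₁).map π) a
  -- the image of `a₁` in `E ⊗ P` dies in `E ⊗ M`
  have hz : (a₁ ≫ (T.map S.f).app P) ≫ (T.obj S.X₂).map π = 0 := by
    rw [Category.assoc, ← (T.map S.f).naturality π, ← Category.assoc, ← h₁, Category.assoc, ha,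
      comp_zero]
  obtain ⟨A₂, p₂, hp₂, a₂, h₂⟩ := lift_refine (T.obj S.X₂) hR (a₁ ≫ (T.map S.f).app P) hz
  change A₂ ⟶ (T.obj S.X₂).obj (kernel π) at a₂
  change p₂ ≫ a₁ ≫ (T.map S.f).app P = a₂ ≫ (T.obj S.X₂).map (kernel.ι π) at h₂
  -- the image of `a₂` in `K ⊗ M'` vanishes
  have h4 : (T.map (0 : S.X₁ ⟶ S.X₃)).app P = 0 := (T.flip.obj P).map_zero _ _
  have hz2 : a₂ ≫ (T.map S.g).app (kernel π) = 0 := by
    rw [← cancel_mono ((T.obj S.X₃).map (kernel.ι π)), zero_comp, Category.assoc,
      ← (T.map S.g).naturality (kernel.ι π), ← Category.assoc, ← h₂]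
    simp only [Category.assoc]
    rw [← NatTrans.comp_app, ← Functor.map_comp, S.zero, h4, comp_zero, comp_zero]
  obtain ⟨A₃, p₃, hp₃, a₃, h₃⟩ := lift_refine (T.flip.obj (kernel π)) hS a₂ hz2
  change A₃ ⟶ (T.obj S.X₁).obj (kernel π) at a₃
  change p₃ ≫ a₂ = a₃ ≫ (T.map S.f).app (kernel π) at h₃
  have key : p₃ ≫ p₂ ≫ a₁ = a₃ ≫ (T.obj S.X₁).map (kernel.ι π) := by
    rw [← cancel_mono ((T.map S.f).app P)]
    simp only [Category.assoc]
    rw [h₂, ← Category.assoc, h₃, Category.assoc, (T.map S.f).naturality (kernel.ι π)]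
  have hepi3 : Epi (p₃ ≫ p₂ ≫ p₁) := inferInstance
  rw [← cancel_epi (p₃ ≫ p₂ ≫ p₁), comp_zero]
  simp only [Category.assoc]
  rw [h₁, ← Category.assoc p₂, ← Category.assoc p₃, key, Category.assoc, ← Functor.map_comp,
    kernel.condition, Functor.map_zero, comp_zero]

include henough in
/-- `0 → K' ⊗ M → E ⊗ M → K ⊗ M → 0` is exact if `K` is flat. -/
theorem shortExact_flip {S : ShortComplex A} (hS : S.ShortExact)
    [PreservesFiniteLimits (T.obj S.X₃)] (M : A) : (S.map (T.flip.obj M)).ShortExact where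
  exact := (map_exact (T.flip.obj M) hS).1
  mono_f := mono_map_app T henough hS M
  epi_g := (map_exact (T.flip.obj M) hS).2

include henough in
/-- The kernel of an epimorphism of flat objects is flat. -/
theorem flat_kernel {S : ShortComplex A} (hS : S.ShortExact)
    [PreservesFiniteLimits (T.obj S.X₃)] [PreservesFiniteLimits (T.obj S.X₂)] :
    PreservesFiniteLimits (T.obj S.X₁) := by
  have hT := (((T.obj S.X₁).preservesFiniteLimits_tfae).out 0 3).1
  apply hT
  intro R hR
  refine ⟨(map_exact (T.obj S.X₁) hR).1, ?_⟩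
  have h1 : Mono ((T.map S.f).app R.X₁) := mono_map_app T henough hS R.X₁
  have h2 : Mono ((T.obj S.X₂).map R.f) := (hR.map_of_exact (T.obj S.X₂)).mono_f
  have h3 : Mono ((T.obj S.X₁).map R.f ≫ (T.map S.f).app R.X₂) := by
    rw [(T.map S.f).naturality R.f]
    infer_instance
  exact mono_of_mono _ ((T.map S.f).app R.X₂)

end Groth.Agent.Vancyc.H684.FlatAbs
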