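import Groth.Agent.Sga4h.H914.TensExact
import Groth.Agent.Sga4h.H914.CommAbs
import Groth.Agent.Vancyc.H684.FlatAbs

/-!
# Graded commutativity of `Ext^*(Λ_X, Λ_X)`, `Λ` any commutative ring
-/

set_option autoImplicit false

universe u

open CategoryTheory CategoryTheory.Limits AlgebraicGeometry MonoidalCategory CategoryTheory.Abelian

namespace Groth.Agent.Vancyc.H684.GradedComm

open Groth.Agent.Sga4h Groth.Agent.Sga4h.ModDTensor Groth.Agent.Sga5.H861.UnitComm
  Groth.Agent.Sga4h.H914 Groth.Agent.Sga4h.H914.Interchange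

variable (Λ : Type (u + 1)) [CommRing Λ] (X : Scheme.{u})

theorem pfl_unit_flip : PreservesFiniteLimits ((EtModD.tensorBi Λ X).flip.obj (un Λ X)) :=
  preservesFiniteLimits_of_natIso (TensorUnit.tensorUnitRight Λ X).symm

theorem pfl_unit : PreservesFiniteLimits ((EtModD.tensorBi Λ X).obj (un Λ X)) :=
  preservesFiniteLimits_of_natIso (tensorUnitLeft Λ X).symm

instance pfc_obj (F : EtModW.Mod Λ X) : PreservesFiniteColimits ((EtModD.tensorBi Λ X).obj F) := by
  have h : PreservesColimitsOfSize.{0, 0} ((EtModD.tensorBi Λ X).obj F) :=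
    (Adjunction.ofIsLeftAdjoint ((EtModD.tensorBi Λ X).obj F)).leftAdjoint_preservesColimits
  exact PreservesColimitsOfSize.preservesFiniteColimits.{0, 0} _

instance pfc_flip (F : EtModW.Mod Λ X) : PreservesFiniteColimits ((EtModD.tensorBi Λ X).flip.obj F) := by
  have h : PreservesColimitsOfSize.{0, 0} ((EtModD.tensorBi Λ X).flip.obj F) :=
    (Adjunction.ofIsLeftAdjoint ((EtModD.tensorBi Λ X).flip.obj F)).leftAdjoint_preservesColimits
  exact PreservesColimitsOfSize.preservesFiniteColimits.{0, 0} _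

theorem enough (M : EtModW.Mod Λ X) : ∃ (P : EtModW.Mod Λ X) (p : P ⟶ M), Epi p ∧
    PreservesFiniteLimits ((EtModD.tensorBi Λ X).flip.obj P) := by
  obtain ⟨P, p, hp, h1, -⟩ := DualEt.enoughFlat Λ X M
  exact ⟨P, p, hp, preservesFiniteLimits_of_natIso (flipObjIso P).symm⟩

open scoped Groth.Agent.Sga4B.ModEtInst

theorem exists_kill {K L : EtModW.Mod Λ X} (m : ℕ) (x : Ext.{u + 1} K L (m + 1))
    (hK : PreservesFiniteLimits ((EtModD.tensorBi Λ X).obj K)) :
    ∃ (K' E : EtModW.Mod Λ X) (i : K' ⟶ E) (p : E ⟶ K) (w : i ≫ p = 0)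
      (h : (ShortComplex.mk i p w).ShortExact) (x' : Ext.{u + 1} K' L m),
      PreservesFiniteLimits ((EtModD.tensorBi Λ X).obj K') ∧
      PreservesFiniteLimits ((EtModD.tensorBi Λ X).obj E) ∧
      x = h.extClass.comp x' (add_comm 1 m) := by
  obtain ⟨F', q, hq, hqx⟩ := Sga4B.DualFormal.exists_epi_kill m x
  obtain ⟨E, p₁, hp₁, hE, -⟩ := DualEt.enoughFlat Λ X F'
  have hp : Epi (p₁ ≫ q) := inferInstance
  have hS : (ShortComplex.mk _ _ (kernel.condition (p₁ ≫ q))).ShortExact :=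
    { exact := ShortComplex.exact_kernel _ }
  have hx : (Ext.mk₀ (p₁ ≫ q)).comp x (zero_add _) = 0 := by
    rw [← Ext.mk₀_comp_mk₀, Ext.comp_assoc (Ext.mk₀ p₁) (Ext.mk₀ q) x (zero_add 0)
      (zero_add (m + 1)) (by omega), hqx, Ext.comp_zero]
  obtain ⟨y, hy⟩ := Ext.contravariant_sequence_exact₃ hS L x hx (n₀ := m) (add_comm 1 m)
  exact ⟨_, _, _, _, _, hS, y, FlatAbs.flat_kernel (EtModD.tensorBi Λ X) (enough Λ X) hS, hE, hy.symm⟩

/-- The interchange law for classes in `Ext^*(Λ, Λ)`. -/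
theorem interchange_unit {m n : ℕ} (x : Ext.{u + 1} (un Λ X) (un Λ X) m)
    (y : Ext.{u + 1} (un Λ X) (un Λ X) n)
    [PreservesFiniteLimits ((EtModD.tensorBi Λ X).flip.obj (un Λ X))]
    [PreservesFiniteLimits ((EtModD.tensorBi Λ X).obj (un Λ X))] :
    (x.mapExactFunctor ((EtModD.tensorBi Λ X).flip.obj (un Λ X))).comp
      (y.mapExactFunctor ((EtModD.tensorBi Λ X).obj (un Λ X))) (rfl : m + n = m + n) =
    ((-1 : ℤ) ^ (m * n)) • ((y.mapExactFunctor ((EtModD.tensorBi Λ X).obj (un Λ X))).comp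
      (x.mapExactFunctor ((EtModD.tensorBi Λ X).flip.obj (un Λ X))) (add_comm n m)) := by
  have h := interchange (EtModD.tensorBi Λ X)
    (fun K => PreservesFiniteLimits ((EtModD.tensorBi Λ X).obj K)) (fun K hK => hK)
    (fun {K L} m x hK => exists_kill Λ X m x hK)
    (fun {K' E K} i p w h _ _ hK M => by
      have h1 := FlatAbs.shortExact_flip (EtModD.tensorBi Λ X) (enough Λ X) h M
      exact ⟨by rw [← NatTrans.comp_app, ← Functor.map_comp, w, Functor.map_zero]; rfl, h1⟩)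
    ((EtModD.tensorBi Λ X).flip.obj (un Λ X)) ((EtModD.tensorBi Λ X).flip.obj (un Λ X))
    (Iso.refl _) (Iso.refl _) y m (K := un Λ X) (L := un Λ X) inferInstance inferInstance x
  rw [TensExact.rM_refl] at h
  exact h

variable {Λ X}

/-- **Graded commutativity** in all degrees, any commutative ring `Λ`. -/
theorem comm {m n : ℕ} (x : Ext.{u + 1} (un Λ X) (un Λ X) m) (y : Ext.{u + 1} (un Λ X) (un Λ X) n) :
    x.comp y (rfl : m + n = m + n) = ((-1 : ℤ) ^ (m * n)) • (y.comp x (add_comm n m)) := by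
  have i1 := pfl_unit_flip Λ X
  have i2 := pfl_unit Λ X
  have hR := Etcore.ExtAdj.mapExactFunctor_nat (TensorUnit.tensorUnitRight Λ X).hom x
  have hL := Etcore.ExtAdj.mapExactFunctor_nat (tensorUnitLeft Λ X).hom y
  rw [Etcore.ExtAdj.mapExactFunctor_id] at hR hL
  have hiso : IsIso ((tensorUnitLeft Λ X).hom.app (un Λ X)) := inferInstance
  have hu := unitLeft_eq_unitRight (Λ := Λ) (X := X)
  have h := interchange_unit Λ X x y
  refine CommAbs.comm_core ((tensorUnitLeft Λ X).hom.app (un Λ X)) rfl (add_comm n m)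
    ((-1 : ℤ) ^ (m * n)) x y _ _ ?_ hL h
  rw [hu]
  exact hR

end Groth.Agent.Vancyc.H684.GradedComm
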