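import Groth.Agent.Vancyc.H684.KunnErr

/-!
# The trace formula for the identity up to bounded torsion
-/

set_option autoImplicit false

universe w w'

open CategoryTheory CategoryTheory.Abelian

namespace Groth.Agent.Vancyc.H684.KunnTr

open Groth.Agent.Sga5.H861.Kun Groth.Agent.Vancyc.H684.KunnErr

section Count

theorem card_tor_le {I : Type*} [Fintype I] (n p : ℕ) [NeZero n] (hp : 0 < p) :
    Nat.card (UnifCount.tor (I → ZMod n) p) ≤ p ^ Fintype.card I := by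
  have h1 : Nat.card (UnifCount.tor (I → ZMod n) p) ≤ Nat.card (I → UnifCount.tor (ZMod n) p) := by
    refine Nat.card_le_card_of_injective (fun x a => ⟨x.1 a, ?_⟩) fun x y h => ?_
    · exact congrFun ((UnifCount.mem_tor p x.1).1 x.2) a
    · apply Subtype.ext
      funext a
      exact congrArg Subtype.val (congrFun h a)
  rw [Nat.card_pi, Finset.prod_const, Finset.card_univ] at h1
  exact h1.trans (Nat.pow_le_pow_left (UnifCount.card_tor_zmod_le n p hp) _)

theorem card_le_range {I : Type*} [Fintype I] {n : ℕ} [NeZero n] {M : Type*} [AddCommGroup M]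
    [Finite M] (Ψ : (I → ZMod n) →+ M) (p : ℕ) (hp : 0 < p) (h : ∀ f, Ψ f = 0 → p • f = 0) :
    n ^ Fintype.card I ≤ p ^ Fintype.card I * Nat.card Ψ.range := by
  have hc : Nat.card (I → ZMod n) = n ^ Fintype.card I := by
    rw [Nat.card_pi, Finset.prod_const, Finset.card_univ, Nat.card_zmod]
  have h1 := UnifCount.card_le_of_exact (G := UnifCount.tor (I → ZMod n) p) (fun x => x.1)
    Ψ.rangeRestrict (fun x hx => ⟨⟨x, by
      rw [UnifCount.mem_tor]
      exact h x (congrArg Subtype.val hx)⟩, rfl⟩)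
  rw [hc] at h1
  exact h1.trans (Nat.mul_le_mul_right _ (card_tor_le n p hp))

theorem pow_smul_mem {M : Type*} [AddCommGroup M] [Finite M] {ℓ : ℕ} (hℓ : ℓ.Prime) (m : ℕ)
    (hM : ∀ x : M, ℓ ^ m • x = 0) (A : AddSubgroup M) (K : ℕ) (hK : Nat.card M ≤ K * Nat.card A)
    (x : M) : ℓ ^ K • x ∈ A := by
  have h1 : Nat.card M = Nat.card (M ⧸ A) * Nat.card A :=
    AddSubgroup.card_eq_card_quotient_mul_card_addSubgroup A
  have h2 : Nat.card (M ⧸ A) ≤ K := by
    rw [h1] at hK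
    exact Nat.le_of_mul_le_mul_right hK Nat.card_pos
  have h3 : addOrderOf (QuotientAddGroup.mk x : M ⧸ A) ∣ ℓ ^ m :=
    addOrderOf_dvd_of_nsmul_eq_zero (by
      rw [← QuotientAddGroup.mk_nsmul, hM]
      rfl)
  obtain ⟨r, -, hr⟩ := (Nat.dvd_prime_pow hℓ).1 h3
  have h4 : addOrderOf (QuotientAddGroup.mk x : M ⧸ A) ≤ K := by
    refine le_trans (Nat.le_of_dvd Nat.card_pos (addOrderOf_dvd_natCard _)) h2
  have h5 : r ≤ K := by
    rw [hr] at h4
    exact ((Nat.lt_pow_self hℓ.one_lt).le).trans h4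
  rw [← QuotientAddGroup.eq_zero_iff, QuotientAddGroup.mk_nsmul]
  exact addOrderOf_dvd_iff_nsmul_eq_zero.1 (hr ▸ pow_dvd_pow ℓ h5)

end Count

variable {C : Type*} [Category C] [Abelian C] [HasExt.{w} C]
variable {D : Type*} [Category D] [Abelian D] [HasExt.{w'} D]
variable {U : C} {W : D} {n : ℕ}
  [∀ i, Module (ZMod n) (Ext.{w} U U i)] [∀ i, Module (ZMod n) (Ext.{w'} W W i)]
  {N : ℕ} (S : Data U W n N)

/-- An approximate basis. -/
structure Appr (U : C) (n : ℕ) (b : ℕ → ℕ) (q : ℕ) where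
  /-- into -/
  u : ∀ i, (Fin (b i) → ZMod n) →+ Ext.{w} U U i
  /-- out of -/
  v : ∀ i, Ext.{w} U U i →+ (Fin (b i) → ZMod n)
  vu : ∀ i x, v i (u i x) = q • x
  uv : ∀ i z, u i (v i z) = q • z

variable {b : ℕ → ℕ} {q : ℕ} (A : Appr U n b q)

/-- Unit vectors. -/
def ee {m : ℕ} (k : Fin m) : Fin m → ZMod n := Pi.single k 1

omit [∀ i, Module (ZMod n) (Ext.{w} U U i)] in
theorem v_u_ee (i : ℕ) (k k' : Fin (b i)) : A.v i (A.u i (ee k)) k' = if k' = k then (q : ZMod n) else 0 := by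
  rw [A.vu, Pi.smul_apply, ee, Pi.single_apply, nsmul_eq_mul, mul_ite, mul_one, mul_zero]

theorem sum_u (i : ℕ) (f : Fin (b i) → ZMod n) : ∑ k, f k • A.u i (ee k) = A.u i f := by
  have h : f = ∑ k, f k • (ee k : Fin (b i) → ZMod n) := by
    funext l
    rw [Finset.sum_apply]
    simp [ee, Pi.single_apply]
  conv_rhs => rw [h, map_sum]
  refine Finset.sum_congr rfl fun k _ => ?_
  exact (ZMod.map_smul (A.u i) (f k) (ee k)).symm

/-- Right dual vectors. -/
structure DualR where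
  /-- the vectors -/
  y : ∀ {i j : ℕ}, i + j = N → Fin (b i) → Ext.{w} U U j
  hy : ∀ {i j : ℕ} (h : i + j = N) (k : Fin (b i)) (x : Ext.{w} U U i), S.T (x.comp (y h k) h) = A.v i x k

/-- Left dual vectors. -/
structure DualL where
  /-- the vectors -/
  y : ∀ {i j : ℕ}, i + j = N → Fin (b j) → Ext.{w} U U i
  hy : ∀ {i j : ℕ} (h : i + j = N) (k : Fin (b j)) (x : Ext.{w} U U j), S.T ((y h k).comp x h) = A.v j x k

variable (R : DualR S A) (L : DualL S A)

variable {S A}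

/-- The trace functional in degree `i`. -/
noncomputable def tr {i j : ℕ} (h : i + j = N) : Ext.{w'} W W N →+ ZMod n :=
  ∑ k : Fin (b i), S.t.comp (quad h (S.Q.f i (A.u i (ee k))) (S.P.f j (R.y h k)))

theorem tr_apply {i j : ℕ} (h : i + j = N) (z : Ext.{w'} W W N) :
    tr R h z = ∑ k : Fin (b i), S.t (quad h (S.Q.f i (A.u i (ee k))) (S.P.f j (R.y h k)) z) := by
  unfold tr
  rw [AddMonoidHom.finsetSum_apply]
  rfl

/-- The trace functional on a decomposable element of another degree. -/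
theorem tr_ne {i j : ℕ} (h : i + j = N) {i' j' : ℕ} (h' : i' + j' = N) (hne : i' ≠ i)
    (a : Ext.{w} U U i') (c : Ext.{w} U U j') : tr R h ((S.P.f i' a).comp (S.Q.f j' c) h') = 0 := by
  rw [tr_apply]
  exact Finset.sum_eq_zero fun k _ => S.t_quad_QP_ne h h' hne _ _ _ _

/-- The trace functional on a decomposable element of the same degree. -/
theorem tr_eq {i j : ℕ} (h : i + j = N)
    (a : Ext.{w} U U i) (c : Ext.{w} U U j) :
    tr R h ((S.P.f i a).comp (S.Q.f j c) h) = (-1) ^ i * (q * S.T (a.comp c h) * S.uu) := by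
  rw [tr_apply]
  have h1 : ∀ k : Fin (b i), S.t (quad h (S.Q.f i (A.u i (ee k))) (S.P.f j (R.y h k))
      ((S.P.f i a).comp (S.Q.f j c) h)) =
      (-1) ^ i * (S.T ((A.v i a k • A.u i (ee k)).comp c h) * S.uu) := by
    intro k
    rw [S.t_quad_QP_eq, R.hy, smul_comp, ZMod.map_smul, smul_eq_mul]
  rw [Finset.sum_congr rfl fun k _ => h1 k, ← Finset.mul_sum, ← Finset.sum_mul, ← map_sum,
    ← sum_comp, sum_u, A.uv, ← Nat.cast_smul_eq_nsmul (ZMod n), smul_comp, ZMod.map_smul,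
    smul_eq_mul]

theorem sum_tr (z : Ext.{w'} W W N) (hz : z ∈ S.cr) :
    ∑ i : Fin (N + 1), (-1) ^ (i : ℕ) * tr R (Nat.add_sub_of_le (Nat.lt_succ_iff.1 i.2)) z =
      q * S.T (S.G.f N z) * S.uu := by
  have key := S.cr_ext
    (∑ i : Fin (N + 1), (AddMonoidHom.mulLeft ((-1) ^ (i : ℕ) : ZMod n)).comp
      (tr R (Nat.add_sub_of_le (Nat.lt_succ_iff.1 i.2))))
    (((AddMonoidHom.mulRight S.uu).comp (AddMonoidHom.mulLeft (q : ZMod n))).comp
      (S.T.comp (S.G.f N))) ?_ z hz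
  · rw [AddMonoidHom.finsetSum_apply] at key
    exact key
  · intro i j h a c
    rw [AddMonoidHom.finsetSum_apply]
    have hi : i < N + 1 := by omega
    rw [Finset.sum_eq_single (⟨i, hi⟩ : Fin (N + 1))]
    · change (-1) ^ i * tr R _ ((S.P.f i a).comp (S.Q.f j c) h) =
        q * S.T (S.G.f N ((S.P.f i a).comp (S.Q.f j c) h)) * S.uu
      obtain rfl : j = N - i := by omega
      rw [tr_eq, S.T_G, ← mul_assoc, ← pow_add, Even.neg_one_pow ⟨i, rfl⟩, one_mul]
    · intro i' _ hne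
      change (-1) ^ (i' : ℕ) * tr R _ ((S.P.f i a).comp (S.Q.f j c) h) = 0
      rw [tr_ne R _ h (fun e => hne (Fin.ext e.symm)), mul_zero]
    · intro h1
      exact absurd (Finset.mem_univ _) h1

/-- For a class supported on the diagonal. -/
theorem tr_supp {i j : ℕ} (h : i + j = N) (z : Ext.{w'} W W N) (hz : z ∈ S.cr)
    (hs : ∀ (i : ℕ) (x : Ext.{w} U U i), (S.P.f i x).comp z (rfl : i + N = i + N) =
      (S.Q.f i x).comp z rfl) :
    tr R h z = S.T (S.I.f N z) * (q * b i) * S.uu := by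
  rw [tr_apply]
  have h1 : ∀ k : Fin (b i), S.t (quad h (S.Q.f i (A.u i (ee k))) (S.P.f j (R.y h k)) z) =
      S.T (S.I.f N z) * q * S.uu := by
    intro k
    rw [quad_apply, ← hs, ← quad_apply]
    have key := S.cr_ext (S.t.comp (quad h (S.P.f i (A.u i (ee k))) (S.P.f j (R.y h k))))
      ((AddMonoidHom.mulRight (q * S.uu)).comp (S.T.comp (S.I.f N))) ?_ z hz
    · rw [mul_assoc]
      exact key
    · intro i' j' h' a c
      change S.t (quad h _ _ _) = S.T (S.I.f N _) * (q * S.uu)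
      rw [S.t_quad_PP, R.hy, v_u_ee, if_pos rfl, mul_assoc]
  rw [Finset.sum_congr rfl fun k _ => h1 k, Finset.sum_const, Finset.card_univ, Fintype.card_fin,
    nsmul_eq_mul]
  ring

include R in
/-- The formula for a multiple of the class in the Künneth part. -/
theorem main_of_mem (z : Ext.{w'} W W N) (hz : z ∈ S.cr)
    (hs : ∀ (i : ℕ) (x : Ext.{w} U U i), (S.P.f i x).comp z (rfl : i + N = i + N) =
      (S.Q.f i x).comp z rfl) :
    q * S.T (S.G.f N z) =
      q * (S.T (S.I.f N z) * ∑ i : Fin (N + 1), (-1) ^ (i : ℕ) * (b i : ZMod n)) := by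
  have h1 := sum_tr R z hz
  rw [Finset.sum_congr rfl fun (i : Fin (N + 1)) _ => by
    rw [tr_supp R (Nat.add_sub_of_le (Nat.lt_succ_iff.1 i.2)) z hz hs]] at h1
  have h2 : IsUnit S.uu := S.unit
  rw [← h2.mul_left_inj, ← h1, Finset.mul_sum, Finset.mul_sum, Finset.sum_mul]
  refine Finset.sum_congr rfl fun i _ => ?_
  ring

section Kunneth

variable (N b) in
/-- Index set. -/
abbrev Idx : Type := Σ i : Fin (N + 1), Fin (b i) × Fin (b (N - i))

theorem hi (i : Fin (N + 1)) : (i : ℕ) + (N - i) = N := Nat.add_sub_of_le (Nat.lt_succ_iff.1 i.2)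

variable (S A) in
/-- decomposable basis elements -/
noncomputable def ω (s : Idx N b) : Ext.{w'} W W N :=
  (S.P.f s.1 (A.u s.1 (ee s.2.1))).comp (S.Q.f (N - s.1) (A.u (N - s.1) (ee s.2.2))) (hi s.1)

variable (S A) in
/-- The Künneth map. -/
noncomputable def Ψ : (Idx N b → ZMod n) →+ Ext.{w'} W W N :=
  AddMonoidHom.mk' (fun f => ∑ s, f s • ω S A s) (fun f g => by
    rw [← Finset.sum_add_distrib]
    exact Finset.sum_congr rfl fun s _ => add_smul _ _ _)

theorem Ψ_apply (f : Idx N b → ZMod n) : Ψ S A f = ∑ s, f s • ω S A s := rfl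

theorem range_Ψ_le : (Ψ S A).range ≤ S.cr := by
  rintro _ ⟨f, rfl⟩
  rw [Ψ_apply]
  refine AddSubgroup.sum_mem _ fun s _ => ?_
  unfold ω
  rw [← smul_comp, ← MulMap.smul]
  exact S.mem_cr _ _ _

/-- Dual functionals. -/
noncomputable def φ (s : Idx N b) : Ext.{w'} W W N →+ ZMod n :=
  S.t.comp (quad (hi s.1) (S.Q.f s.1 (L.y (hi s.1) s.2.2)) (S.P.f (N - s.1) (R.y (hi s.1) s.2.1)))

theorem φ_ω (s s' : Idx N b) :
    φ R L s (ω S A s') = if s' = s then (-1) ^ (s.1 : ℕ) * (q * q * S.uu) else 0 := by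
  obtain ⟨i, k, l⟩ := s
  obtain ⟨i', k', l'⟩ := s'
  change S.t (quad (hi i) (S.Q.f i (L.y (hi i) l)) (S.P.f (N - i) (R.y (hi i) k))
    ((S.P.f i' (A.u i' (ee k'))).comp (S.Q.f (N - i') (A.u (N - i') (ee l'))) (hi i'))) = _
  by_cases hii : i' = i
  · subst hii
    rw [S.t_quad_QP_eq, R.hy, L.hy, v_u_ee, v_u_ee]
    by_cases hk : k = k'
    · subst hk
      by_cases hl : l = l'
      · subst hl
        rw [if_pos rfl, if_pos rfl, if_pos rfl]
      · have hne : ¬ ((⟨i', (k, l')⟩ : Idx N b) = ⟨i', (k, l)⟩) := fun e => hl (by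
          simp only [Sigma.mk.injEq, heq_eq_eq, Prod.mk.injEq, true_and] at e
          exact e.symm)
        rw [if_pos rfl, if_neg hl, if_neg hne]
        ring
    · have hne : ¬ ((⟨i', (k', l')⟩ : Idx N b) = ⟨i', (k, l)⟩) := fun e => hk (by
          simp only [Sigma.mk.injEq, heq_eq_eq, Prod.mk.injEq, true_and] at e
          exact e.1.symm)
      rw [if_neg hk, if_neg hne]
      ring
  · rw [S.t_quad_QP_ne _ _ (fun e => hii (Fin.ext e)), if_neg (fun e => hii (congrArg Sigma.fst e))]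

include R L in
theorem kill_of_Ψ (f : Idx N b → ZMod n) (hf : Ψ S A f = 0) : (q * q) • f = 0 := by
  funext s
  have h1 : φ R L s (Ψ S A f) = f s * ((-1) ^ (s.1 : ℕ) * (q * q * S.uu)) := by
    rw [Ψ_apply, map_sum, Finset.sum_eq_single s]
    · rw [ZMod.map_smul, φ_ω, if_pos rfl, smul_eq_mul]
    · intro s' _ hne
      rw [ZMod.map_smul, φ_ω, if_neg hne, smul_zero]
    · intro h
      exact absurd (Finset.mem_univ _) h
  rw [hf, map_zero] at h1
  have h2 : IsUnit S.uu := S.unit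
  have h3 : IsUnit ((-1 : ZMod n) ^ (s.1 : ℕ)) := (isUnit_one.neg).pow _
  rw [Pi.smul_apply, Pi.zero_apply, nsmul_eq_mul, ← (h3.mul h2).mul_left_inj, zero_mul]
  rw [show ((q * q : ℕ) : ZMod n) * f s * ((-1) ^ (s.1 : ℕ) * S.uu) =
    f s * ((-1) ^ (s.1 : ℕ) * (q * q * S.uu)) by push_cast; ring]
  exact h1.symm

include R L in
/-- Künneth up to bounded torsion. -/
theorem pow_smul_mem_cr [NeZero n] [Finite (Ext.{w'} W W N)] {ℓ m : ℕ} (hℓ : ℓ.Prime)
    (hn : n = ℓ ^ m) (hq : 0 < q)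
    (C₂ : ℕ) (hC : Nat.card (Ext.{w'} W W N) ≤ C₂ * n ^ (∑ i : Fin (N + 1), b i * b (N - i)))
    (z : Ext.{w'} W W N) :
    ℓ ^ (C₂ * (q * q) ^ (∑ i : Fin (N + 1), b i * b (N - i))) • z ∈ S.cr := by
  have hB : Fintype.card (Idx N b) = ∑ i : Fin (N + 1), b i * b (N - i) := by
    rw [Fintype.card_sigma]
    refine Finset.sum_congr rfl fun i _ => ?_
    rw [Fintype.card_prod, Fintype.card_fin, Fintype.card_fin]
  have h1 := card_le_range (Ψ S A) (q * q) (Nat.mul_pos hq hq) (kill_of_Ψ R L)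
  rw [hB] at h1
  refine range_Ψ_le (A := A) (pow_smul_mem hℓ m (fun x => ?_) _ _ ?_ z)
  · have h2 : ((ℓ ^ m : ℕ) : ZMod n) • x = 0 := by
      rw [← hn, ZMod.natCast_self, zero_smul]
    rwa [Nat.cast_smul_eq_nsmul] at h2
  · calc Nat.card (Ext.{w'} W W N) ≤ C₂ * n ^ (∑ i : Fin (N + 1), b i * b (N - i)) := hC
      _ ≤ C₂ * ((q * q) ^ (∑ i : Fin (N + 1), b i * b (N - i)) * Nat.card (Ψ S A).range) :=
        Nat.mul_le_mul_left _ h1
      _ = C₂ * (q * q) ^ (∑ i : Fin (N + 1), b i * b (N - i)) * Nat.card (Ψ S A).range :=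
        (mul_assoc _ _ _).symm

include R L in
/-- **The self-intersection of a class supported on the diagonal, up to bounded torsion.** -/
theorem main [NeZero n] [Finite (Ext.{w'} W W N)] {ℓ m : ℕ} (hℓ : ℓ.Prime)
    (hn : n = ℓ ^ m) (c₀ : ℕ) (hq : q = ℓ ^ c₀)
    (C₂ : ℕ) (hC : Nat.card (Ext.{w'} W W N) ≤ C₂ * n ^ (∑ i : Fin (N + 1), b i * b (N - i)))
    (z : Ext.{w'} W W N)
    (hs : ∀ (i : ℕ) (x : Ext.{w} U U i), (S.P.f i x).comp z (rfl : i + N = i + N) =
      (S.Q.f i x).comp z rfl) :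
    (ℓ : ZMod n) ^ (c₀ + C₂ * (q * q) ^ (∑ i : Fin (N + 1), b i * b (N - i))) *
        S.T (S.G.f N z) =
      (ℓ : ZMod n) ^ (c₀ + C₂ * (q * q) ^ (∑ i : Fin (N + 1), b i * b (N - i))) *
        (S.T (S.I.f N z) * ∑ i : Fin (N + 1), (-1) ^ (i : ℕ) * (b i : ZMod n)) := by
  have hq0 : 0 < q := by rw [hq]; exact Nat.pow_pos hℓ.pos
  have h1 := pow_smul_mem_cr R L hℓ hn hq0 C₂ hC z
  set K := C₂ * (q * q) ^ (∑ i : Fin (N + 1), b i * b (N - i)) with hK
  have h2 := main_of_mem R (ℓ ^ K • z) h1 (fun i x => by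
    rw [Data.comp_nsmul, Data.comp_nsmul, hs])
  rw [map_nsmul, map_nsmul, map_nsmul, map_nsmul, nsmul_eq_mul, nsmul_eq_mul] at h2
  have h3 : (q : ZMod n) = (ℓ : ZMod n) ^ c₀ := by rw [hq, Nat.cast_pow]
  rw [h3] at h2
  push_cast at h2
  rw [pow_add]
  calc (ℓ : ZMod n) ^ c₀ * (ℓ : ZMod n) ^ K * S.T (S.G.f N z) =
      (ℓ : ZMod n) ^ c₀ * ((ℓ : ZMod n) ^ K * S.T (S.G.f N z)) := by ring
    _ = _ := h2
    _ = _ := by ring

end Kunneth

end Groth.Agent.Vancyc.H684.KunnTr
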