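import Groth.Agent.Sga5.H861.T1
import Groth.Agent.Vancyc.H684.KunnTr
import Groth.Agent.Vancyc.H684.GradedComm

/-!
# The self-intersection of the diagonal, up to bounded torsion: formal part
-/

set_option autoImplicit false
set_option linter.unusedSectionVars false

universe u

open CategoryTheory CategoryTheory.Limits CategoryTheory.Abelian AlgebraicGeometry

namespace Groth.Agent.Vancyc.H684.B1Form

open Groth.Agent.Sga5.H861 Groth.Agent.Sga5.H861.Res Groth.Agent.Sga5.H861.Slices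
  Groth.Agent.Sga5.H861.Kun Groth.Agent.Sga5.H861.DualAbs Groth.Agent.Sga5.H861.T1
open Groth.Agent.Vancyc.H684.KunnErr Groth.Agent.Vancyc.H684.KunnTr
open scoped Groth.Agent.Etcore.EtInst Groth.Agent.Sga4B.ModEtInst Groth.Agent.Sga5.H861.T1

variable {Λ : Type (u + 1)} [CommRing Λ]

/-- Pull-back preserves `1`. -/
theorem res_one {X Y : Scheme.{u}} (f : X ⟶ Y) :
    res (Λ := Λ) f 0 (Ext.mk₀ (𝟙 (FixPt.unit Λ Y))) = Ext.mk₀ (𝟙 (FixPt.unit Λ X)) := by
  rw [res_apply, Ext.mapExactFunctor_mk₀, Ext.mk₀_comp_mk₀, Ext.mk₀_comp_mk₀,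
    CategoryTheory.Functor.map_id, Category.comp_id, Iso.inv_hom_id]

section Slice

variable {X K : Scheme.{u}} (a : X ⟶ K) [IsSeparated a] (x₀ : K ⟶ X) (hx₀ : x₀ ≫ a = 𝟙 K)

/-- Off `x₀` the slice `t ↦ (x₀, t)` avoids the diagonal. -/
theorem exists_lift0 : ∃ l : (U0 a x₀ hx₀ : Scheme.{u}) ⟶ UΔ a,
    l ≫ (UΔ a).ι = (U0 a x₀ hx₀).ι ≫ i0 a x₀ hx₀ := by
  refine ⟨IsOpenImmersion.lift (UΔ a).ι ((U0 a x₀ hx₀).ι ≫ i0 a x₀ hx₀) ?_,
    IsOpenImmersion.lift_fac _ _ _⟩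
  rintro _ ⟨t, rfl⟩
  have h : Set.range (UΔ a).ι = (Set.range (pullback.diagonal a))ᶜ := by
    rw [Scheme.Opens.range_ι]
    rfl
  rw [h]
  rintro ⟨s, hs⟩
  have e1 : s = (U0 a x₀ hx₀).ι t := by
    have h1 := congrArg (pullback.snd a a) hs
    rw [← Scheme.Hom.comp_apply, ← Scheme.Hom.comp_apply, pullback.diagonal_snd, Category.assoc,
      i0_snd, Category.comp_id] at h1
    exact h1
  have e2 : s = ((U0 a x₀ hx₀).ι ≫ a ≫ x₀) t := by
    have h1 := congrArg (pullback.fst a a) hs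
    rw [← Scheme.Hom.comp_apply, ← Scheme.Hom.comp_apply, pullback.diagonal_fst, Category.assoc,
      i0_fst] at h1
    exact h1
  have h3 : (U0 a x₀ hx₀).ι t ∈ U0 a x₀ hx₀ := t.2
  rw [← e1, e2] at h3
  exact h3 ⟨((U0 a x₀ hx₀).ι ≫ a) t, by
    rw [← Scheme.Hom.comp_apply, Category.assoc]⟩

/-- A class which vanishes off the diagonal has slices vanishing off `x₀`. -/
theorem res_U0' {n : ℕ} (c : R Λ (pullback a a) n) (hc : res (UΔ a).ι n c = 0) :
    res (U0 a x₀ hx₀).ι n (res (i0 a x₀ hx₀) n c) = 0 := by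
  obtain ⟨l, hl⟩ := exists_lift0 a x₀ hx₀
  rw [res_res Λ _ _ _ hl.symm, ← res_res Λ l (UΔ a).ι _ rfl, hc, map_zero]

end Slice

variable {n : ℕ} [NeZero n] [IsZ n Λ]

section OneScheme

variable {X : Scheme.{u}} {N : ℕ} (hX : HasDual Λ n X N)
  (h0 : ∀ x : R Λ X 0, ∃ c : ZMod n, x = c • (Ext.mk₀ (𝟙 (FixPt.unit Λ X)) : R Λ X 0))
  (γ : R Λ X N) (T : R Λ X N →+ ZMod n) (hT : T γ = 1)

include hX h0 hT in
/-- `R^N = (ℤ/n) γ`. -/
theorem T_spec (x : R Λ X N) : x = T x • γ := by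
  obtain ⟨t, ht⟩ := hX
  have hb := ht N 0 (zero_add N)
  let g : R Λ X N → ZMod n := fun y => pair t (zero_add N) y (Ext.mk₀ (𝟙 (FixPt.unit Λ X)))
  have hg : Function.Injective g := by
    intro y y' hy
    apply hb.1
    ext x
    obtain ⟨c, rfl⟩ := h0 x
    rw [ZMod.map_smul, ZMod.map_smul]
    exact congrArg (fun z => c • z) hy
  have hfin : Finite (R Λ X N) := Finite.of_injective g hg
  let f : ZMod n → R Λ X N := fun c => c • γ
  have hf : Function.Injective f := by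
    intro c c' h
    have h2 := congrArg T h
    change T (c • γ) = T (c' • γ) at h2
    rwa [ZMod.map_smul, ZMod.map_smul, hT, smul_eq_mul, smul_eq_mul, mul_one, mul_one] at h2
  have hf2 := hf.bijective_of_nat_card_le (Nat.card_le_card_of_injective g hg)
  obtain ⟨c, rfl⟩ := hf2.2 x
  change c • γ = T (c • γ) • γ
  rw [ZMod.map_smul, hT, smul_eq_mul, mul_one]

include hT in
theorem ord_γ' (c : ZMod n) (hc : c • γ = 0) : c = 0 := by
  have := congrArg T hc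
  rwa [ZMod.map_smul, hT, map_zero, smul_eq_mul, mul_one] at this

include hT in
/-- `R^0 = (ℤ/n) 1` by counting. -/
theorem scalar_of_card (hfin : Finite (R Λ X 0)) (hcard : Nat.card (R Λ X 0) ≤ n)
    (x : R Λ X 0) : ∃ c : ZMod n, x = c • (Ext.mk₀ (𝟙 (FixPt.unit Λ X)) : R Λ X 0) := by
  let f : ZMod n → R Λ X 0 := fun c => c • (Ext.mk₀ (𝟙 (FixPt.unit Λ X)) : R Λ X 0)
  have hf : Function.Injective f := by
    intro c c' h
    have h1 : γ.comp (f c) (add_zero N) = γ.comp (f c') (add_zero N) := by rw [h]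
    change γ.comp (c • Ext.mk₀ _) _ = γ.comp (c' • Ext.mk₀ _) _ at h1
    rw [comp_smul, comp_smul, Ext.comp_mk₀_id] at h1
    have h2 := congrArg T h1
    rwa [ZMod.map_smul, ZMod.map_smul, hT, smul_eq_mul, smul_eq_mul, mul_one, mul_one] at h2
  have hf2 := hf.bijective_of_nat_card_le (by rwa [Nat.card_zmod])
  obtain ⟨c, hc⟩ := hf2.2 x
  exact ⟨c, hc.symm⟩

include h0 hT in
/-- The trace of `γ` is a unit. -/
theorem isUnit_t (hX : HasDual Λ n X N) (t : R Λ X N →+ ZMod n)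
    (ht : ∀ (q m : ℕ) (h : m + q = N),
      Function.Bijective (pair t h : R Λ X q →+ (R Λ X m →+ ZMod n))) : IsUnit (t γ) := by
  refine isUnit_trace t ?_ γ (fun y => ⟨T y, T_spec hX h0 γ T hT y⟩) (ord_γ' γ T hT)
  intro y y' hy
  apply (ht 0 N (add_zero N)).1
  ext x
  exact congrFun hy x

include hX h0 hT in
/-- `T (x · y)` is perfect. -/
theorem exists_dual {i j : ℕ} (h : i + j = N) (φ : R Λ X i →+ ZMod n) :
    ∃ y : R Λ X j, ∀ x : R Λ X i, T (x.comp y h) = φ x := by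
  obtain ⟨t, ht⟩ := id hX
  have hu := isUnit_t h0 γ T hT hX t ht
  obtain ⟨y, hy⟩ := (ht j i h).2 ((AddMonoidHom.mulRight (t γ)).comp φ)
  refine ⟨y, fun x => ?_⟩
  have h1 := DFunLike.congr_fun hy x
  change t (x.comp y h) = φ x * t γ at h1
  rw [T_spec hX h0 γ T hT (x.comp y h), ZMod.map_smul, smul_eq_mul] at h1
  exact (hu.mul_left_inj).1 h1

include hX h0 hT in
/-- `T (y · x)` is perfect. -/
theorem exists_dual' {i j : ℕ} (h : i + j = N) (φ : R Λ X j →+ ZMod n) :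
    ∃ y : R Λ X i, ∀ x : R Λ X j, T (y.comp x h) = φ x := by
  obtain ⟨y, hy⟩ := exists_dual hX h0 γ T hT ((add_comm j i).trans h) φ
  refine ⟨((-1 : ℤ) ^ (i * j)) • y, fun x => ?_⟩
  subst h
  rw [GradedComm.comm, Data.comp_zsmul, ← mul_zsmul, ← mul_pow, neg_one_mul, neg_neg, one_pow,
    one_zsmul]
  exact hy x

end OneScheme

variable {X K : Scheme.{u}} (a : X ⟶ K) [IsSeparated a] {N : ℕ} (hN : Even N)
  (hX : HasDual Λ n X N) (hS : HasDual Λ n (pullback a a) (N + N))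
  (htop : ∀ i, N < i → ∀ x : R Λ X i, x = 0)
  (hK : ∀ i, 0 < i → ∀ x : R Λ K i, x = 0)
  (h0 : ∀ x : R Λ X 0, ∃ c : ZMod n, x = c • (Ext.mk₀ (𝟙 (FixPt.unit Λ X)) : R Λ X 0))
  (T : R Λ X N →+ ZMod n) (x₀ : K ⟶ X) (hx₀ : x₀ ≫ a = 𝟙 K) (c : R Λ (pullback a a) N)
  (hcΔ : res (UΔ a).ι N c = 0) (hT : T (res (i0 a x₀ hx₀) N c) = 1)

include hX hS h0 hcΔ hT in
theorem exists_trace_S : ∃ t : R Λ (pullback a a) (N + N) →+ ZMod n,
    IsUnit (t ((res (pullback.fst a a) N (res (i0 a x₀ hx₀) N c)).comp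
      (res (pullback.snd a a) N (res (i0 a x₀ hx₀) N c)) rfl)) := by
  obtain ⟨t, ht⟩ := hS
  have hγ := res_U0' a x₀ hx₀ c hcΔ
  set γ := res (i0 a x₀ hx₀) N c
  refine ⟨t, isUnit_trace_prod (rfl : N + N = N + N) (mm (pullback.fst a a)) (mm (pullback.snd a a))
    (mm (i0 a x₀ hx₀)) (mm (i1 a x₀ hx₀)) (res_i0_snd a x₀ hx₀ N) (res_i1_fst a x₀ hx₀ N) γ
    (fun y => ⟨T y, T_spec hX h0 γ T hT y⟩) (ord_γ' γ T hT) ?_ t ?_⟩
  · intro z z' hz
    exact mul_eq_of_res_eq (i1 a x₀ hx₀) _ (isCompl_i1 a x₀ hx₀) _ _ (res_snd a x₀ hx₀ γ hγ) z z' hz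
  · intro y y' hy
    apply (ht N N rfl).1
    ext x
    exact congrFun hy x

/-- The data of `KunnErr`. -/
noncomputable def data (t : R Λ (pullback a a) (N + N) →+ ZMod n)
    (ht : IsUnit (t ((res (pullback.fst a a) N (res (i0 a x₀ hx₀) N c)).comp
      (res (pullback.snd a a) N (res (i0 a x₀ hx₀) N c)) rfl))) :
    Data (FixPt.unit Λ X) (FixPt.unit Λ (pullback a a)) n N where
  P := mm (pullback.fst a a)
  Q := mm (pullback.snd a a)
  I := mm (i0 a x₀ hx₀)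
  G := mm (pullback.diagonal a)
  even := hN
  GP i x := by
    rw [mm_f, mm_f, res_res _ _ _ _ (pullback.diagonal_fst a), res_id _ rfl]
  GQ i x := by
    rw [mm_f, mm_f, res_res _ _ _ _ (pullback.diagonal_snd a), res_id _ rfl]
  IQ := res_i0_snd a x₀ hx₀
  IP := res_i0_fst a hK x₀ hx₀
  IP0 := by rw [mm_f, mm_f, res_one, res_one]
  scalar := h0
  P1 := by rw [mm_f, res_one]
  γ := res (i0 a x₀ hx₀) N c
  T := T
  T_spec := T_spec hX h0 _ T hT
  top i x hi := htop i hi x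
  t := t
  unit := ht
  comm {i j k} h x y := by
    subst h
    exact GradedComm.comm x y

include hN hX hS htop hK h0 hcΔ hT in
/-- **(B1), formal part.** -/
theorem formal {ℓ m : ℕ} (hℓ : ℓ.Prime) (hn : n = ℓ ^ m) (b : ℕ → ℕ) (c₀ : ℕ)
    (A : Appr (FixPt.unit Λ X) n b (ℓ ^ c₀)) (hfin : Finite (R Λ (pullback a a) N)) (C₂ : ℕ)
    (hC : Nat.card (R Λ (pullback a a) N) ≤ C₂ * n ^ (∑ i : Fin (N + 1), b i * b (N - i))) :
    (ℓ : ZMod n) ^ (c₀ + C₂ * (ℓ ^ c₀ * ℓ ^ c₀) ^ (∑ i : Fin (N + 1), b i * b (N - i))) *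
        T (res (pullback.diagonal a) N c) =
      (ℓ : ZMod n) ^ (c₀ + C₂ * (ℓ ^ c₀ * ℓ ^ c₀) ^ (∑ i : Fin (N + 1), b i * b (N - i))) *
        ∑ i : Fin (N + 1), (-1) ^ (i : ℕ) * (b i : ZMod n) := by
  obtain ⟨t, ht⟩ := exists_trace_S a hX hS h0 T x₀ hx₀ c hcΔ hT
  let S := data a hN hX htop hK h0 T x₀ hx₀ c hT t ht
  choose y hy using fun (i j : ℕ) (h : i + j = N) (k : Fin (b i)) =>
    exists_dual hX h0 _ T hT h ((Pi.evalAddMonoidHom (fun _ : Fin (b i) => ZMod n) k).comp (A.v i))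
  choose y' hy' using fun (i j : ℕ) (h : i + j = N) (k : Fin (b j)) =>
    exists_dual' hX h0 _ T hT h ((Pi.evalAddMonoidHom (fun _ : Fin (b j) => ZMod n) k).comp (A.v j))
  let D1 : DualR S A := ⟨fun {i j} h k => y i j h k, fun {i j} h k x => hy i j h k x⟩
  let D2 : DualL S A := ⟨fun {i j} h k => y' i j h k, fun {i j} h k x => hy' i j h k x⟩
  have key := KunnTr.main D1 D2 hℓ hn c₀ rfl C₂ hC c (fun i x =>
    mul_eq_of_res_eq (pullback.diagonal a) (UΔ a).ι (isCompl_diagonal a) _ c hcΔ _ _ (by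
      change res (pullback.diagonal a) i (res (pullback.fst a a) i x) =
        res (pullback.diagonal a) i (res (pullback.snd a a) i x)
      rw [res_res _ _ _ _ (pullback.diagonal_fst a), res_res _ _ _ _ (pullback.diagonal_snd a)]))
  change (ℓ : ZMod n) ^ _ * T (res (pullback.diagonal a) N c) = (ℓ : ZMod n) ^ _ *
    (T (res (i0 a x₀ hx₀) N c) * _) at key
  rw [hT, one_mul] at key
  exact key

end Groth.Agent.Vancyc.H684.B1Form
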