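import Groth.Agent.Vancyc.H684.B1Form
import Groth.Agent.Vancyc.H684.B1Cnt
import Groth.Agent.Vancyc.H158.TrLam
import Groth.Agent.Sga5.H861.Duality
import Groth.Agent.S0185
import Groth.Agent.EtpbcA.CdTwoDim
import Groth.Agent.CurvesA.CSpecD1
import Groth.Agent.Etrest.SHPoint
import Groth.Agent.Etrest.ConstBasic
import Mathlib.AlgebraicGeometry.Morphisms.Flat

/-!
# The self-intersection of the diagonal and the Euler characteristic, up to bounded torsion

`main`: `X` connected, proper and smooth of relative dimension `d` over the algebraically closed field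
`k`, `ℓ` invertible in `k`.  There is `e` such that for every `N`, every class
`c ∈ H^{2d}(X × X, ℤ/ℓ^N)` which vanishes off the diagonal, and every `t : H^{2d}(X) → ℤ/ℓ^N` with
`t (c|_{x × X}) = 1` for one point `x`, `ℓ^e t (c|_Δ) = ℓ^e χ(X)`.
-/

set_option autoImplicit false

universe u

open CategoryTheory CategoryTheory.Limits CategoryTheory.Abelian AlgebraicGeometry Opposite

namespace Groth.Agent.Vancyc.H684.B1Main

open Groth.Agent.Sga5.H861 Groth.Agent.Sga5.H861.DualAbs Groth.Agent.Sga5.H861.T1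
open Groth.Agent.Vancyc.H158.TrLam Groth.Agent.Sga5.H844.CountAbs
open scoped Groth.Agent.Etcore.EtInst Groth.Agent.Sga4B.ModEtInst Groth.Agent.Sga5.H861.T1

section Geo

variable {k : Type u} [Field k] {X : Scheme.{u}} (a : X ⟶ Spec (CommRingCat.of k))

/-- The point of a slice is rational. -/
theorem section_of_slice [Smooth a] [Nonempty X] (x : Spec (CommRingCat.of k) ⟶ X)
    (s : X ⟶ pullback a a) (hs1 : s ≫ pullback.fst a a = a ≫ x)
    (hs2 : s ≫ pullback.snd a a = 𝟙 X) : x ≫ a = 𝟙 _ := by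
  have hsurj : Surjective a := by
    constructor
    intro y
    obtain ⟨z⟩ := ‹Nonempty X›
    have : Subsingleton (Spec (CommRingCat.of k)) :=
      inferInstanceAs (Subsingleton (PrimeSpectrum k))
    exact ⟨z, Subsingleton.elim _ _⟩
  have hepi : Epi a := Flat.epi_of_flat_of_surjective a
  rw [← cancel_epi a, Category.comp_id, ← Category.assoc, ← hs1, Category.assoc,
    pullback.condition, ← Category.assoc, hs2, Category.id_comp]

variable {a} in
theorem slice_eq [IsSeparated a] (x : Spec (CommRingCat.of k) ⟶ X) (hx : x ≫ a = 𝟙 _)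
    (s : X ⟶ pullback a a) (hs1 : s ≫ pullback.fst a a = a ≫ x)
    (hs2 : s ≫ pullback.snd a a = 𝟙 X) : s = Slices.i0 a x hx := by
  apply pullback.hom_ext
  · rw [hs1, Slices.i0_fst]
  · rw [hs2, Slices.i0_snd]

theorem smooth_prod (d : ℕ) [SmoothOfRelativeDimension d a] :
    SmoothOfRelativeDimension (d + d) (pullback.fst a a ≫ a) := by
  have := smoothOfRelativeDimension_isStableUnderBaseChange.{u} d
  have i1 : SmoothOfRelativeDimension d (pullback.fst a a) :=
    MorphismProperty.pullback_fst (P := @SmoothOfRelativeDimension d) a a inferInstance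
  infer_instance

end Geo

section Dic

variable {X : Scheme.{u}} {n : ℕ}

theorem eq_zero_of_H {i : ℕ} (h : Subsingleton (EtCoh.H X (EtCoh.const X (ZMod n)) i))
    (x : Res.R (Lam.{u} n) X i) : x = 0 :=
  (trL n X i).injective (@Subsingleton.elim _ h _ _)

theorem finite_R {i : ℕ} (h : Finite (EtCoh.H X (EtCoh.const X (ZMod n)) i)) :
    Finite (Res.R (Lam.{u} n) X i) :=
  @Finite.of_equiv _ _ h (trL n X i).symm.toEquiv

theorem card_R (i : ℕ) :
    Nat.card (Res.R (Lam.{u} n) X i) = Nat.card (EtCoh.H X (EtCoh.const X (ZMod n)) i) :=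
  Nat.card_congr (trL n X i).toEquiv

/-- The approximate basis of `R^*(X)`. -/
theorem exists_appr {b : ℕ → ℕ} {q : ℕ}
    (h : ∀ i, ∃ (u : (Fin (b i) → ZMod n) →+ EtCoh.H X (EtCoh.const X (ZMod n)) i)
      (v : EtCoh.H X (EtCoh.const X (ZMod n)) i →+ (Fin (b i) → ZMod n)),
      (∀ x, v (u x) = q • x) ∧ (∀ z, u (v z) = q • z)) :
    Nonempty (KunnTr.Appr (FixPt.unit (Lam.{u} n) X) n b q) := by
  choose u v h1 h2 using h
  exact ⟨{
    u := fun i => ((trL n X i).symm.toAddMonoidHom).comp (u i)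
    v := fun i => (v i).comp (trL n X i).toAddMonoidHom
    vu := fun i x => by
      refine Eq.trans ?_ (h1 i x)
      exact congrArg (v i) ((trL n X i).apply_symm_apply (u i x))
    uv := fun i z => by
      refine Eq.trans (congrArg (trL n X i).symm (h2 i (trL n X i z))) ?_
      exact (map_nsmul (trL n X i).symm q (trL n X i z)).trans
        (congrArg (fun y => q • y) ((trL n X i).symm_apply_apply z)) }⟩

end Dic

/-- Duality, for the coefficient ring written `Lam n`. -/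
theorem hasDual {k : Type u} [Field k] [IsAlgClosed k] {X : Scheme.{u}}
    (a : X ⟶ Spec (CommRingCat.of k)) [IsProper a] (d : ℕ) [SmoothOfRelativeDimension d a]
    (n : ℕ) (hn : (n : k) ≠ 0) : HasDual (Lam.{u} n) n X (2 * d) :=
  Duality.hasDual a d n hn

theorem sum_eq {n D : ℕ} (b : ℕ → ℕ) {χ : ℤ}
    (h : ∑ i ∈ Finset.range (D + 1), (-1 : ℤ) ^ i * (b i : ℤ) = χ) :
    ∑ i : Fin (D + 1), (-1 : ZMod n) ^ (i : ℕ) * (b i : ZMod n) = ((χ : ℤ) : ZMod n) := by
  rw [← h, Fin.sum_univ_eq_sum_range (fun i => (-1 : ZMod n) ^ i * (b i : ZMod n))]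
  push_cast
  rfl

/-- **(B1).** -/
theorem main (k : Type u) [Field k] [IsAlgClosed k] {X : Scheme.{u}}
    (a : X ⟶ Spec (CommRingCat.of k)) [IsProper a] (d : ℕ) [SmoothOfRelativeDimension d a]
    [ConnectedSpace X] (ℓ : ℕ) (hℓ : ℓ.Prime) (hk : (ℓ : k) ≠ 0) :
    ∃ e : ℕ, ∀ (N : ℕ) (c : Res.R (Lam.{u} (ℓ ^ N)) (pullback a a) (2 * d))
      (t : Res.R (Lam.{u} (ℓ ^ N)) X (2 * d) →+ ZMod (ℓ ^ N))
      (x : Spec (CommRingCat.of k) ⟶ X) (s : X ⟶ pullback a a)
      (_hs1 : s ≫ pullback.fst a a = a ≫ x) (_hs2 : s ≫ pullback.snd a a = 𝟙 X),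
      (∀ {U : Scheme.{u}} (j : U ⟶ pullback a a) [IsOpenImmersion j],
        IsCompl (Set.range (pullback.diagonal a)) (Set.range j) → Res.res j (2 * d) c = 0) →
      t (Res.res s (2 * d) c) = 1 →
      (ℓ : ZMod (ℓ ^ N)) ^ e * t (Res.res (pullback.diagonal a) (2 * d) c) =
        (ℓ : ZMod (ℓ ^ N)) ^ e * ((VanCyc.euler ℓ X (2 * d) : ℤ) : ZMod (ℓ ^ N)) := by
  have hsm : Smooth a := SmoothOfRelativeDimension.smooth d a
  have hdim : topologicalKrullDim X ≤ d :=
    (CurvesA.CSpecD1.topologicalKrullDim_eq_of_smoothOfRelativeDimension d a).le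
  have hpos : ∀ N, 0 < ℓ ^ N := fun N => Nat.pow_pos hℓ.pos
  have hpow : ∀ N, ((ℓ ^ N : ℕ) : k) ≠ 0 := fun N => by
    rw [Nat.cast_pow]
    exact pow_ne_zero N hk
  have hkill : ∀ N (Y : Scheme.{u}), EtCoh.KilledBy (ℓ ^ N) (EtCoh.const Y (ZMod (ℓ ^ N))) :=
    fun N Y => Etrest.ConstBasic.killedBy_const Y (ZMod (ℓ ^ N)) (ℓ ^ N) (by simp)
  have hfin : ∀ i N : ℕ, Finite (EtCoh.H X (EtCoh.const X (ZMod (ℓ ^ N))) i) := fun i N => by
    have : NeZero (ℓ ^ N) := ⟨(hpos N).ne'⟩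
    exact Groth.Agent.S0185.result X a (ℓ ^ N) (hpos N) _
      (Etrest.ConstBasic.isConstructible_const X (ZMod (ℓ ^ N))) (hkill N X) i
  have hvan : ∀ i N : ℕ, 2 * d < i → Subsingleton (EtCoh.H X (EtCoh.const X (ZMod (ℓ ^ N))) i) :=
    fun i N hi => Groth.Agent.EtpbcA.CdTwoDim.cohDimLE_two_mul X a d hdim _
      (Etrest.ConstBasic.isTorsion_of_killedBy (hpos N) (hkill N X)) i hi
  obtain ⟨b, c₀, C, hC, hb, hR, hsum⟩ := UnifEt.exists_rank X ℓ hℓ (2 * d) hfin hvan
  obtain ⟨C₂, hC₂⟩ := B1Cnt.cardLE_prod a hℓ (2 * d) hfin hC hb hR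
  refine ⟨c₀ + C₂ * (ℓ ^ c₀ * ℓ ^ c₀) ^ (∑ i : Fin (2 * d + 1), b i * b (2 * d - i)),
    fun N c t x s hs1 hs2 hsupp ht => ?_⟩
  have hne : NeZero (ℓ ^ N) := ⟨(hpos N).ne'⟩
  have hx := section_of_slice a x s hs1 hs2
  obtain rfl := slice_eq x hx s hs1 hs2
  have hX := hasDual a d (ℓ ^ N) (hpow N)
  have i2 := smooth_prod a d
  have hS := hasDual (pullback.fst a a ≫ a) (d + d) (ℓ ^ N) (hpow N)
  rw [show 2 * (d + d) = 2 * d + 2 * d by ring] at hS
  obtain ⟨A⟩ := exists_appr (fun i => hR.uv i N)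
  have hcard0 : Finite (Res.R (Lam.{u} (ℓ ^ N)) X 0) ∧
      Nat.card (Res.R (Lam.{u} (ℓ ^ N)) X 0) ≤ ℓ ^ N := by
    have h1 := Groth.Agent.Sga5.H844.ProdCount.cardLE_H0 (X := X) (ℓ ^ N) (hpos N).ne'
    exact ⟨finite_R h1.1, by rw [card_R]; exact h1.2⟩
  have h0 := B1Form.scalar_of_card (Res.res (Slices.i0 a x hx) (2 * d) c) t ht hcard0.1 hcard0.2
  have h1 := hC₂ N
  have key := B1Form.formal a (even_two_mul d) hX hS
    (fun i hi => eq_zero_of_H (hvan i N hi))
    (fun i hi => eq_zero_of_H (Etrest.SHPoint.subsingleton_H_of_sepClosed k _ i hi))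
    h0 t x hx c (hsupp _ (Slices.isCompl_diagonal a)) ht hℓ rfl b c₀ A (finite_R h1.1) C₂
    (by
      rw [card_R]
      refine h1.2.trans (le_of_eq ?_)
      rw [Fin.sum_univ_eq_sum_range (fun i => b i * b (2 * d - i))])
  rw [sum_eq b hsum] at key
  exact key

end Groth.Agent.Vancyc.H684.B1Main
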