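import Groth.Prelude.Def_VanCyc
import Groth.Agent.Sga4h.TameFieldAlg
import Groth.Agent.Sga4B.UnitsAway
import Mathlib.RepresentationTheory.Homological.GroupCohomology.Hilbert90
import Mathlib.GroupTheory.FiniteAbelian.Duality
import Mathlib.FieldTheory.Normal.Closure
import Mathlib.FieldTheory.Galois.Infinite

/-!
# Characters of the inertia group of a strictly henselian trait, killed by an integer prime to `p`

`R` a strictly henselian discrete valuation ring with fraction field `K`, `Ω` a separable closure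
of `K`, `t` a uniformiser, `N` invertible in `R`.

* `char_apply_eq_one`: a homomorphism `Gal(Ω/K) → Kˣ` killed by `N` and trivial on an open subgroup
  kills every `σ` fixing an `N`-th root of `t` in `Ω` (Kummer theory).
* `apply_eq_one`: the same with values in any commutative group killed by `N`.
-/

set_option autoImplicit false
set_option linter.unusedSectionVars false

universe u

namespace Groth.Agent.Vancyc.H684.Kummer

open IsLocalRing

section Restrict

variable {K Ω : Type*} [Field K] [Field Ω] [Algebra K Ω] [IsGalois K Ω]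

/-- A homomorphism trivial on the automorphisms fixing a normal subextension `M` takes the same
value on automorphisms with the same restriction to `M`. -/
theorem apply_eq_of_restrict {A : Type*} [Group A] (φ : (Ω ≃ₐ[K] Ω) →* A)
    (M : IntermediateField K Ω) [Normal K M] (hM : ∀ g ∈ M.fixingSubgroup, φ g = 1)
    (g h : Ω ≃ₐ[K] Ω) (hgh : AlgEquiv.restrictNormalHom M g = AlgEquiv.restrictNormalHom M h) :
    φ g = φ h := by
  have h1 : h⁻¹ * g ∈ (AlgEquiv.restrictNormalHom (F := K) (K₁ := Ω) M).ker := by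
    rw [MonoidHom.mem_ker, map_mul, map_inv, hgh, inv_mul_cancel]
  rw [IntermediateField.restrictNormalHom_ker] at h1
  have h2 := hM _ h1
  rw [map_mul, map_inv] at h2
  exact (inv_mul_eq_one.1 h2).symm

/-- The range of a homomorphism trivial on an open subgroup is finite. -/
theorem finite_range {A : Type*} [Group A] (φ : (Ω ≃ₐ[K] Ω) →* A)
    (M : IntermediateField K Ω) [Normal K M] [FiniteDimensional K M]
    (hM : ∀ g ∈ M.fixingSubgroup, φ g = 1) : Finite φ.range := by
  classical
  let f : (M ≃ₐ[K] M) → φ.range := fun g =>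
    ⟨φ (Function.surjInv (AlgEquiv.restrictNormalHom_surjective (F := K) (K₁ := M) Ω) g), _, rfl⟩
  have hf : Function.Surjective f := by
    rintro ⟨-, g, rfl⟩
    refine ⟨AlgEquiv.restrictNormalHom M g, Subtype.ext ?_⟩
    exact apply_eq_of_restrict φ M hM _ _
      (Function.surjInv_eq (AlgEquiv.restrictNormalHom_surjective (F := K) (K₁ := M) Ω) _)
  exact Finite.of_surjective f hf

end Restrict

variable (R K Ω : Type u) [CommRing R] [IsDomain R] [IsDiscreteValuationRing R]
  (hR : EtCoh.IsStrictlyHenselianLocalRing R) [Field K] [Algebra R K] [IsFractionRing R K]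
  [Field Ω] [Algebra K Ω] [IsSepClosure K Ω] [Algebra R Ω] [IsScalarTower R K Ω]

include hR in
/-- Units of a strictly henselian ring are `N`-th powers. -/
theorem exists_pow_eq_unit (N : ℕ) (hN : IsUnit (N : R)) (w : Rˣ) : ∃ v : R, v ^ N = w := by
  obtain ⟨h1, h2⟩ := hR
  have h3 : IsSepClosed (ResidueField R) := h2
  obtain ⟨b, hb⟩ := Sga4B.UnitsAway.exists_pow_eq R N hN w
  exact ⟨b, by rw [hb]; simp⟩

include hR in
/-- Every nonzero element of `K` is, up to an `N`-th power of `K`, an integral power of the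
uniformiser: if `r ∈ Ω` is an `N`-th root of `t` then there are `c ∈ K` and `m n : ℕ` with
`a = (c r ^ m / r ^ n) ^ N`. -/
theorem exists_root_eq (N : ℕ) (hN : IsUnit (N : R)) {t : R} (ht : Irreducible t)
    (r : Ω) (hr : r ^ N = algebraMap K Ω (algebraMap R K t)) (a : K) (ha : a ≠ 0) :
    ∃ (c : K) (m n : ℕ), (algebraMap K Ω c * r ^ m / r ^ n) ^ N = algebraMap K Ω a := by
  obtain ⟨x, y, hy, rfl⟩ := IsFractionRing.div_surjective (A := R) a
  have hy0 : y ≠ 0 := nonZeroDivisors.ne_zero hy
  have hx0 : x ≠ 0 := by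
    rintro rfl
    simp at ha
  obtain ⟨m, w1, hw1⟩ := IsDiscreteValuationRing.eq_unit_mul_pow_irreducible hx0 ht
  obtain ⟨n, w2, hw2⟩ := IsDiscreteValuationRing.eq_unit_mul_pow_irreducible hy0 ht
  obtain ⟨v1, hv1⟩ := exists_pow_eq_unit R hR N hN w1
  obtain ⟨v2, hv2⟩ := exists_pow_eq_unit R hR N hN w2
  refine ⟨algebraMap R K v1 / algebraMap R K v2, m, n, ?_⟩
  rw [div_pow, mul_pow, ← pow_mul, ← pow_mul, mul_comm m N, mul_comm n N, pow_mul, pow_mul, hr,
    map_div₀, map_div₀, div_pow, ← map_pow, ← map_pow, ← map_pow, ← map_pow, hv1, hv2, hw1, hw2]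
  simp only [map_mul, map_pow]
  rw [div_mul_eq_mul_div, div_div]

include hR in
/-- Kummer theory: a continuous character `Gal(Ω/K) → Kˣ` killed by `N` is trivial on the
automorphisms fixing an `N`-th root of a uniformiser. -/
theorem char_apply_eq_one (N : ℕ) (hN : IsUnit (N : R)) {t : R} (ht : Irreducible t)
    (ψ : (Ω ≃ₐ[K] Ω) →* Kˣ) (hψ : ∀ g, ψ g ^ N = 1)
    (L : IntermediateField K Ω) [FiniteDimensional K L] (hL : ∀ g ∈ L.fixingSubgroup, ψ g = 1)
    (σ : Ω ≃ₐ[K] Ω) (hσ : VanCyc.FixesRoot N (algebraMap R K t) σ) : ψ σ = 1 := by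
  classical
  have hgal : IsGalois K Ω := IsSepClosure.isGalois
  have hN0 : N ≠ 0 := by
    rintro rfl
    simp at hN
  let M : IntermediateField K Ω := IntermediateField.normalClosure K L Ω
  have hLM : L ≤ M := L.le_normalClosure
  have hfd : FiniteDimensional K M := normalClosure.is_finiteDimensional K L Ω
  have hnorm : Normal K M := normalClosure.normal K L Ω
  have hMg : IsGalois K M := ⟨⟩
  have hM : ∀ g ∈ M.fixingSubgroup, ψ g = 1 := fun g hg =>
    hL g (IntermediateField.fixingSubgroup_antitone hLM hg)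
  have hsurj := AlgEquiv.restrictNormalHom_surjective (F := K) (K₁ := M) Ω
  let f : (M ≃ₐ[K] M) → Mˣ := fun g =>
    Units.map (algebraMap K M : K →* M) (ψ (Function.surjInv hsurj g))
  have hf : ∀ g : Ω ≃ₐ[K] Ω, f (AlgEquiv.restrictNormalHom M g) =
      Units.map (algebraMap K M : K →* M) (ψ g) := fun g => by
    simp only [f]
    rw [apply_eq_of_restrict ψ M hM _ g (Function.surjInv_eq hsurj _)]
  have hcoc : groupCohomology.IsMulCocycle₁ f := by
    intro g h
    obtain ⟨g, rfl⟩ := hsurj g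
    obtain ⟨h, rfl⟩ := hsurj h
    rw [← map_mul, hf, hf, hf, map_mul, map_mul, mul_comm]
    congr 1
    ext
    simp [AlgEquiv.smul_units_def]
  obtain ⟨β, hβ⟩ := groupCohomology.isMulCoboundary₁_of_isMulCocycle₁_of_aut_to_units f hcoc
  have hβ' : ∀ g : Ω ≃ₐ[K] Ω, g ((β : M) : Ω) = algebraMap K Ω (ψ g : K) * ((β : M) : Ω) := by
    intro g
    have h1 := hβ (AlgEquiv.restrictNormalHom M g)
    rw [hf, div_eq_iff_eq_mul] at h1
    have h2 := congrArg (fun z : Mˣ => (((z : Mˣ) : M) : Ω)) h1
    simp only [AlgEquiv.smul_units_def, Units.coe_map, MonoidHom.coe_coe, Units.val_mul] at h2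
    have h3 : (((AlgEquiv.restrictNormalHom M g) (β : M) : M) : Ω) = g ((β : M) : Ω) :=
      AlgEquiv.restrictNormal_commutes g M (β : M)
    rw [← h3]
    refine h2.trans ?_
    rfl
  have hβ0 : ((β : M) : Ω) ≠ 0 := by
    intro h
    exact β.ne_zero (Subtype.ext h)
  have hfix : ∀ g : Ω ≃ₐ[K] Ω, g (((β : M) : Ω) ^ N) = ((β : M) : Ω) ^ N := by
    intro g
    rw [map_pow, hβ', mul_pow, ← map_pow, ← Units.val_pow_eq_pow_val, hψ, Units.val_one, map_one,
      one_mul]
  have hmem : ((β : M) : Ω) ^ N ∈ (⊥ : IntermediateField K Ω) :=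
    (InfiniteGalois.mem_bot_iff_fixed _).2 hfix
  obtain ⟨a, ha⟩ := IntermediateField.mem_bot.1 hmem
  have ha0 : a ≠ 0 := by
    rintro rfl
    rw [map_zero] at ha
    exact pow_ne_zero N hβ0 ha.symm
  obtain ⟨r, hr, hσr⟩ := hσ
  obtain ⟨c, m, n, hc⟩ := exists_root_eq R K Ω hR N hN ht r hr a ha0
  set γ : Ω := algebraMap K Ω c * r ^ m / r ^ n with hγ
  have hσγ : σ γ = γ := by
    rw [hγ, map_div₀, map_mul, map_pow, map_pow, hσr, AlgEquiv.commutes]
  have hγ0 : γ ≠ 0 := by
    intro h
    rw [h, zero_pow hN0] at hc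
    exact ha0 ((map_eq_zero (algebraMap K Ω)).1 hc.symm)
  obtain ⟨z, hz⟩ := Sga4h.TameFieldAlg.mem_of_pow_eq_one R K hR N hN (((β : M) : Ω) / γ)
    (by rw [div_pow, hc, ← ha, div_self (by rw [ha]; exact pow_ne_zero N hβ0)])
  have hβγ : ((β : M) : Ω) = algebraMap K Ω z * γ := by
    rw [hz, div_mul_cancel₀ _ hγ0]
  have h4 : σ ((β : M) : Ω) = ((β : M) : Ω) := by
    rw [hβγ, map_mul, AlgEquiv.commutes, hσγ]
  rw [hβ'] at h4
  have h5 : algebraMap K Ω (ψ σ : K) = 1 := by
    have h6 : algebraMap K Ω (ψ σ : K) * ((β : M) : Ω) = 1 * ((β : M) : Ω) := by rw [h4, one_mul]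
    exact mul_right_cancel₀ hβ0 h6
  apply Units.ext
  apply (algebraMap K Ω).injective
  rw [h5, Units.val_one, map_one]

include hR in
theorem hasEnoughRootsOfUnity (N : ℕ) (hN : IsUnit (N : R)) : HasEnoughRootsOfUnity K N := by
  have hN0 : N ≠ 0 := by
    rintro rfl
    simp at hN
  have : NeZero N := ⟨hN0⟩
  exact ⟨Sga4h.TameFieldAlg.exists_primitiveRoot R K hR N hN, inferInstance⟩

include hR in
/-- A continuous homomorphism from `Gal(Ω/K)` to a commutative group killed by `N` is trivial on the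
automorphisms fixing an `N`-th root of a uniformiser. -/
theorem apply_eq_one {A : Type*} [CommGroup A] (N : ℕ) (hN : IsUnit (N : R)) {t : R}
    (ht : Irreducible t) (hA : ∀ a : A, a ^ N = 1)
    (φ : (Ω ≃ₐ[K] Ω) →* A)
    (L : IntermediateField K Ω) [FiniteDimensional K L] (hL : ∀ g ∈ L.fixingSubgroup, φ g = 1)
    (σ : Ω ≃ₐ[K] Ω) (hσ : VanCyc.FixesRoot N (algebraMap R K t) σ) : φ σ = 1 := by
  classical
  by_contra hne
  have hgal : IsGalois K Ω := IsSepClosure.isGalois
  have hN0 : N ≠ 0 := by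
    rintro rfl
    simp at hN
  have : NeZero N := ⟨hN0⟩
  let M : IntermediateField K Ω := IntermediateField.normalClosure K L Ω
  have hLM : L ≤ M := L.le_normalClosure
  have hfd : FiniteDimensional K M := normalClosure.is_finiteDimensional K L Ω
  have hnorm : Normal K M := normalClosure.normal K L Ω
  have hM : ∀ g ∈ M.fixingSubgroup, φ g = 1 := fun g hg =>
    hL g (IntermediateField.fixingSubgroup_antitone hLM hg)
  have hfin : Finite φ.range := finite_range φ M hM
  have hexp : Monoid.exponent φ.range ∣ N := Monoid.exponent_dvd_of_forall_pow_eq_one (by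
    rintro ⟨a, ha⟩
    exact Subtype.ext (hA a))
  have hK := hasEnoughRootsOfUnity R K hR N hN
  have : HasEnoughRootsOfUnity K (Monoid.exponent φ.range) := HasEnoughRootsOfUnity.of_dvd K hexp
  obtain ⟨χ, hχ⟩ := CommGroup.exists_apply_ne_one_of_hasEnoughRootsOfUnity φ.range K
    (a := φ.rangeRestrict σ) (by
      intro h
      exact hne (congrArg Subtype.val h))
  apply hχ
  refine char_apply_eq_one R K Ω hR N hN ht (χ.comp φ.rangeRestrict) (fun g => ?_) L
    (fun g hg => ?_) σ hσ
  · rw [MonoidHom.comp_apply, ← map_pow]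
    have : φ.rangeRestrict g ^ N = 1 := Subtype.ext (hA _)
    rw [this, map_one]
  · have : φ.rangeRestrict g = 1 := Subtype.ext (hL g hg)
    rw [MonoidHom.comp_apply, this, map_one]

end Groth.Agent.Vancyc.H684.Kummer
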