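import Groth.Agent.Vancyc.H684.UnifSys
import Mathlib.Analysis.SpecialFunctions.Log.Basic
import Mathlib.GroupTheory.SpecificGroups.Cyclic
import Mathlib.GroupTheory.PGroup
import Mathlib.Algebra.BigOperators.Intervals
import Mathlib.FieldTheory.Finiteness

/-!
# Orders of the groups `H i N` of a graded system

`GSys.exists_rank`: numbers `b i` and a constant `c` such that, for all `i`, `N`, `H i N` is `(ℤ/ℓ^N)^(b i)` up
to `ℓ^c`, `ℓ^(N b_i) / ℓ^c ≤ |H i N| ≤ ℓ^c ℓ^(N b_i)`, and the alternating sum of the `b i` is the alternating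
sum of `log_ℓ |H i 1|`.
-/

set_option autoImplicit false

universe w w'

namespace Groth.Agent.Vancyc.H684.UnifCount

open UnifAlg UnifSys

/-- `|H| ≤ |G| |K|` for `G → H → K` exact at `H`. -/
theorem card_le_of_exact {G H K : Type*} [AddCommGroup H] [AddCommGroup K] [Finite G] [Finite H]
    [Finite K] (f : G → H) (g : H →+ K) (h : ∀ x, g x = 0 → ∃ y, f y = x) :
    Nat.card H ≤ Nat.card G * Nat.card K := by
  have h1 : Nat.card H = Nat.card (H ⧸ g.ker) * Nat.card g.ker :=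
    AddSubgroup.card_eq_card_quotient_mul_card_addSubgroup g.ker
  have h2 : Nat.card (H ⧸ g.ker) ≤ Nat.card K :=
    Nat.card_le_card_of_injective _ (QuotientAddGroup.kerLift_injective g)
  have h3 : Nat.card g.ker ≤ Nat.card G := by
    refine Nat.card_le_card_of_injective (fun x : g.ker => Classical.choose (h x.1 x.2))
      fun x y hxy => ?_
    have h1 := Classical.choose_spec (h x.1 x.2)
    have h2 := Classical.choose_spec (h y.1 y.2)
    apply Subtype.ext
    rw [← h1, ← h2]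
    exact congrArg f hxy
  rw [h1, mul_comm]
  exact Nat.mul_le_mul h3 h2

/-- `M[p]`. -/
abbrev tor (M : Type*) [AddCommGroup M] (p : ℕ) : AddSubgroup M := (nsmulAddMonoidHom (α := M) p).ker

theorem mem_tor {M : Type*} [AddCommGroup M] (p : ℕ) (x : M) : x ∈ tor M p ↔ p • x = 0 := Iff.rfl

theorem card_tor_pow_le {M : Type*} [AddCommGroup M] [Finite M] (ℓ c : ℕ) :
    Nat.card (tor M (ℓ ^ c)) ≤ Nat.card (tor M ℓ) ^ c := by
  induction c with
  | zero =>
    rw [pow_zero, pow_zero]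
    have : Subsingleton (tor M 1) := by
      refine ⟨fun a b => Subtype.ext ?_⟩
      have ha := (mem_tor 1 a.1).1 a.2
      have hb := (mem_tor 1 b.1).1 b.2
      rw [one_nsmul] at ha hb
      rw [ha, hb]
    exact Finite.card_le_one_iff_subsingleton.2 this
  | succ c ih =>
    let g : tor M (ℓ ^ (c + 1)) →+ tor M (ℓ ^ c) :=
      { toFun := fun x => ⟨ℓ • x.1, by
          rw [mem_tor, ← mul_nsmul', ← pow_succ]
          exact x.2⟩
        map_zero' := Subtype.ext (nsmul_zero _)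
        map_add' := fun x y => Subtype.ext (nsmul_add _ _ _) }
    have h1 := card_le_of_exact (G := tor M ℓ) (fun x => (⟨x.1, by
      rw [mem_tor, pow_succ, mul_nsmul', (mem_tor ℓ x.1).1 x.2, nsmul_zero]⟩ : tor M (ℓ ^ (c + 1)))) g
      (fun x hx => ⟨⟨x.1, congrArg Subtype.val hx⟩, rfl⟩)
    refine h1.trans ((Nat.mul_le_mul_left _ ih).trans (le_of_eq ?_))
    ring

theorem card_tor_zmod_le (n p : ℕ) [NeZero n] (hp : 0 < p) : Nat.card (tor (ZMod n) p) ≤ p := by
  classical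
  have h := IsAddCyclic.card_nsmul_eq_zero_le (α := ZMod n) hp
  refine le_trans (le_of_eq ?_) h
  refine Nat.subtype_card _ fun x => ?_
  rw [Finset.mem_filter_univ]
  rfl

theorem card_tor_pi_le (n p b : ℕ) [NeZero n] (hp : 0 < p) :
    Nat.card (tor (Fin b → ZMod n) p) ≤ p ^ b := by
  have h1 : Nat.card (tor (Fin b → ZMod n) p) ≤ Nat.card (Fin b → tor (ZMod n) p) := by
    refine Nat.card_le_card_of_injective (fun x a => ⟨x.1 a, ?_⟩) fun x y h => ?_
    · exact congrFun ((mem_tor p x.1).1 x.2) a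
    · apply Subtype.ext
      funext a
      exact congrArg Subtype.val (congrFun h a)
  rw [Nat.card_pi, Finset.prod_const, Finset.card_univ, Fintype.card_fin] at h1
  exact h1.trans (Nat.pow_le_pow_left (card_tor_zmod_le n p hp) b)

/-- Upper and lower bounds from maps inverse to each other up to `p`. -/
theorem card_bounds {n b p q : ℕ} [NeZero n] (hp : 0 < p) {M : Type*} [AddCommGroup M] [Finite M]
    (u : (Fin b → ZMod n) →+ M) (v : M →+ (Fin b → ZMod n)) (hvu : ∀ x, v (u x) = p • x)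
    (huv : ∀ z, u (v z) = p • z) (hq : Nat.card (tor M p) ≤ q) :
    Nat.card M ≤ q * n ^ b ∧ n ^ b ≤ p ^ b * Nat.card M := by
  have hc : Nat.card (Fin b → ZMod n) = n ^ b := by
    rw [Nat.card_pi, Finset.prod_const, Finset.card_univ, Fintype.card_fin, Nat.card_zmod]
  constructor
  · have h1 := card_le_of_exact (G := tor M p) (fun x => x.1) v (fun x hx => ⟨⟨x, by
      rw [mem_tor, ← huv, hx, map_zero]⟩, rfl⟩)
    rw [hc] at h1
    exact h1.trans (Nat.mul_le_mul_right _ hq)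
  · have h1 := card_le_of_exact (G := tor (Fin b → ZMod n) p) (fun x => x.1) u (fun x hx => ⟨⟨x, by
      rw [mem_tor, ← hvu, hx, map_zero]⟩, rfl⟩)
    rw [hc] at h1
    exact h1.trans (Nat.mul_le_mul_right _ (card_tor_pi_le n p b hp))

section Logs

/-- `log |G|`. -/
noncomputable def lg (G : Type*) : ℝ := Real.log (Nat.card G)

theorem lg_eq_add {G H K : Type*} [AddCommGroup G] [AddCommGroup H] [AddCommGroup K] [Finite H]
    (f : G →+ H) (g : H →+ K) (h : ∀ x, g x = 0 ↔ ∃ y, f y = x) :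
    lg H = lg f.range + lg g.range := by
  have h1 : Nat.card H = Nat.card (H ⧸ g.ker) * Nat.card g.ker :=
    AddSubgroup.card_eq_card_quotient_mul_card_addSubgroup g.ker
  have h2 : Nat.card (H ⧸ g.ker) = Nat.card g.range :=
    Nat.card_congr (QuotientAddGroup.quotientKerEquivRange g).toEquiv
  have h3 : g.ker = f.range := by
    ext x
    exact h x
  have : Finite g.range := Finite.of_surjective _ g.rangeRestrict_surjective
  rw [h2, h3] at h1
  unfold lg
  rw [h1, Nat.cast_mul, Real.log_mul, add_comm]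
  · exact Nat.cast_ne_zero.2 Nat.card_pos.ne'
  · exact Nat.cast_ne_zero.2 Nat.card_pos.ne'

theorem lg_subsingleton (G : Type*) [Nonempty G] [Subsingleton G] : lg G = 0 := by
  unfold lg
  have : Nat.card G = 1 := Nat.card_eq_one_iff_unique.2 ⟨inferInstance, inferInstance⟩
  rw [this]
  simp

end Logs

section Main

variable {ℓ : ℕ} {H : ℕ → ℕ → Type w} [∀ i N, AddCommGroup (H i N)] (S : GSys ℓ H)
  [∀ i N, Finite (H i N)]

include S

/-- The long exact sequence in logarithms. -/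
theorem alt_sum_partial (N D : ℕ) :
    ∑ i ∈ Finset.range (D + 1), (-1 : ℝ) ^ i * (lg (H i N) - lg (H i (1 + N)) + lg (H i 1)) =
      (-1) ^ D * lg (S.δ D 1 N).range := by
  induction D with
  | zero =>
    rw [Finset.sum_range_one, pow_zero, one_mul, one_mul]
    have h2 := lg_eq_add (S.α 0 1 N) (S.r 0 (Nat.le_add_right 1 N)) (S.ex2 0 1 N)
    have h3 := lg_eq_add (S.r 0 (Nat.le_add_right 1 N)) (S.δ 0 1 N) (S.ex3 0 1 N)
    have h1 : lg (H 0 N) = lg (S.α 0 1 N).range := by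
      unfold lg
      rw [Nat.card_congr (AddMonoidHom.ofInjective (S.inj 1 N)).toEquiv]
    rw [h1, h2, h3]
    ring
  | succ D ih =>
    rw [Finset.sum_range_succ, ih]
    have h1 := lg_eq_add (S.δ D 1 N) (S.α (D + 1) 1 N) (S.ex1 D 1 N)
    have h2 := lg_eq_add (S.α (D + 1) 1 N) (S.r (D + 1) (Nat.le_add_right 1 N)) (S.ex2 (D + 1) 1 N)
    have h3 := lg_eq_add (S.r (D + 1) (Nat.le_add_right 1 N)) (S.δ (D + 1) 1 N) (S.ex3 (D + 1) 1 N)
    rw [h1, h2, h3, pow_succ]
    ring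

theorem alt_sum_add (D : ℕ) (hD : ∀ i N, D < i → Subsingleton (H i N)) (N : ℕ) :
    ∑ i ∈ Finset.range (D + 1), (-1 : ℝ) ^ i * lg (H i (1 + N)) =
      ∑ i ∈ Finset.range (D + 1), (-1 : ℝ) ^ i * lg (H i N) +
      ∑ i ∈ Finset.range (D + 1), (-1 : ℝ) ^ i * lg (H i 1) := by
  have h := alt_sum_partial S N D
  have h1 : lg (S.δ D 1 N).range = 0 := by
    have := hD (D + 1) N (Nat.lt_succ_self D)
    exact lg_subsingleton _
  rw [h1, mul_zero] at h
  rw [← Finset.sum_add_distrib, ← sub_eq_zero, ← Finset.sum_sub_distrib, ← neg_eq_zero,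
    ← Finset.sum_neg_distrib, ← h]
  refine Finset.sum_congr rfl fun i _ => ?_
  ring

theorem alt_sum_eq (D : ℕ) (hD : ∀ i N, D < i → Subsingleton (H i N)) (N : ℕ) :
    ∑ i ∈ Finset.range (D + 1), (-1 : ℝ) ^ i * lg (H i N) =
      N * ∑ i ∈ Finset.range (D + 1), (-1 : ℝ) ^ i * lg (H i 1) := by
  induction N with
  | zero =>
    rw [Nat.cast_zero, zero_mul]
    refine Finset.sum_eq_zero fun i _ => ?_
    have : Subsingleton (H i 0) := by
      refine ⟨fun x y => ?_⟩
      have hx := S.kill i 0 x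
      have hy := S.kill i 0 y
      rw [pow_zero, one_nsmul] at hx hy
      rw [hx, hy]
    rw [lg_subsingleton, mul_zero]
  | succ N ih =>
    rw [add_comm N 1, alt_sum_add S D hD, ih]
    push_cast
    ring

/-- `|H i N [ℓ]| ≤ |H (i-1) 1| |H i 1|`. -/
theorem card_tor_le (i N C : ℕ) (hC : ∀ j, Nat.card (H j 1) ≤ C) :
    Nat.card (tor (H i N) ℓ) ≤ C * C := by
  have hC1 : 1 ≤ C := le_trans Nat.card_pos (hC 0)
  rcases N with _ | N
  · have : Subsingleton (H i 0) := by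
      refine ⟨fun x y => ?_⟩
      have hx := S.kill i 0 x
      have hy := S.kill i 0 y
      rw [pow_zero, one_nsmul] at hx hy
      rw [hx, hy]
    exact (Finite.card_le_one_iff_subsingleton.2 inferInstance).trans (Nat.mul_le_mul hC1 hC1)
  · have hle : N + 1 ≤ 1 + N := (Nat.add_comm N 1).le
    have hle' : 1 + N ≤ N + 1 := (Nat.add_comm 1 N).le
    -- the map `x ↦ r x` to the kernel of `α`
    have hα : ∀ x : H i (N + 1), ℓ • x = 0 → S.α i 1 N (S.r i (Nat.le_add_right N 1) x) = 0 := by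
      intro x hx
      have h1 := S.α_r i 1 N (S.r i hle' x)
      rw [S.r_trans, pow_one, ← map_nsmul, hx, map_zero] at h1
      exact h1
    let g : tor (H i (N + 1)) ℓ →+ (S.α i 1 N).ker :=
      { toFun := fun x => ⟨S.r i (Nat.le_add_right N 1) x.1, hα x.1 x.2⟩
        map_zero' := Subtype.ext (map_zero _)
        map_add' := fun x y => Subtype.ext (map_add _ _ _) }
    have hker : ∀ x : tor (H i (N + 1)) ℓ, g x = 0 → ∃ y : H i 1, S.α i N 1 y = x.1 := by
      intro x hx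
      exact (S.ex2 i N 1 x.1).1 (congrArg Subtype.val hx)
    have h1 : Nat.card (tor (H i (N + 1)) ℓ) =
        Nat.card (tor (H i (N + 1)) ℓ ⧸ g.ker) * Nat.card g.ker :=
      AddSubgroup.card_eq_card_quotient_mul_card_addSubgroup g.ker
    have h2 : Nat.card (tor (H i (N + 1)) ℓ ⧸ g.ker) ≤ Nat.card (S.α i 1 N).ker :=
      Nat.card_le_card_of_injective _ (QuotientAddGroup.kerLift_injective g)
    have h3 : Nat.card g.ker ≤ Nat.card (H i 1) := by
      refine Nat.card_le_card_of_injective (fun x : g.ker => Classical.choose (hker x.1 x.2))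
        fun x y hxy => ?_
      have h1 := Classical.choose_spec (hker x.1 x.2)
      have h2 := Classical.choose_spec (hker y.1 y.2)
      apply Subtype.ext
      apply Subtype.ext
      rw [← h1, ← h2]
      exact congrArg (S.α i N 1) hxy
    have h4 : Nat.card (S.α i 1 N).ker ≤ C := by
      rcases i with _ | i
      · have : Subsingleton (S.α 0 1 N).ker := by
          refine ⟨fun x y => Subtype.ext (S.inj 1 N ?_)⟩
          rw [x.2, y.2]
        exact (Finite.card_le_one_iff_subsingleton.2 this).trans hC1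
      · refine le_trans ?_ (hC i)
        have hs : ∀ x : (S.α (i + 1) 1 N).ker, ∃ z, S.δ i 1 N z = x.1 := fun x => (S.ex1 i 1 N x.1).1 x.2
        refine Nat.card_le_card_of_injective (fun x => Classical.choose (hs x)) fun x y hxy => ?_
        apply Subtype.ext
        rw [← Classical.choose_spec (hs x), ← Classical.choose_spec (hs y)]
        exact congrArg _ hxy
    rw [h1]
    exact Nat.mul_le_mul (h2.trans h4) (h3.trans (hC i))

end Main

/-- A real number with bounded multiples vanishes. -/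
theorem eq_zero_of_bounded {x C : ℝ} (h : ∀ N : ℕ, |N * x| ≤ C) : x = 0 := by
  by_contra hx
  have hpos : 0 < |x| := abs_pos.2 hx
  obtain ⟨N, hN⟩ := exists_nat_gt (C / |x|)
  have h1 := h N
  rw [abs_mul, Nat.abs_cast] at h1
  rw [div_lt_iff₀ hpos] at hN
  linarith

theorem exists_card_eq_pow_module {ℓ : ℕ} [Fact ℓ.Prime] (G : Type*) [AddCommGroup G] [Finite G]
    [Module (ZMod ℓ) G] : ∃ n : ℕ, Nat.card G = ℓ ^ n := by
  refine ⟨Module.finrank (ZMod ℓ) G, ?_⟩
  rw [Module.natCard_eq_pow_finrank (K := ZMod ℓ), Nat.card_zmod]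

theorem exists_card_eq_pow {ℓ : ℕ} (hℓ : ℓ.Prime) (G : Type*) [AddCommGroup G] [Finite G]
    (hG : ∀ x : G, ℓ • x = 0) : ∃ n : ℕ, Nat.card G = ℓ ^ n :=
  @exists_card_eq_pow_module ℓ ⟨hℓ⟩ G _ _ (AddCommGroup.zmodModule hG)

theorem lg_eq_log {ℓ : ℕ} (hℓ : ℓ.Prime) (G : Type*) [AddCommGroup G] [Finite G]
    (hG : ∀ x : G, ℓ • x = 0) : lg G = Nat.log ℓ (Nat.card G) * Real.log ℓ := by
  obtain ⟨n, hn⟩ := exists_card_eq_pow hℓ G hG
  unfold lg
  rw [hn, Nat.log_pow hℓ.one_lt, Nat.cast_pow, Real.log_pow]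

/-- `H i N` is `(ℤ/ℓ^N)^(b i)` up to bounded errors (uniformly in `N`). -/
structure Ranks (ℓ : ℕ) (H : ℕ → ℕ → Type w) [∀ i N, AddCommGroup (H i N)] (b : ℕ → ℕ) (c C : ℕ) :
    Prop where
  uv : ∀ i N : ℕ, ∃ (u : (Fin (b i) → ZMod (ℓ ^ N)) →+ H i N)
    (v : H i N →+ (Fin (b i) → ZMod (ℓ ^ N))),
    (∀ x, v (u x) = ℓ ^ c • x) ∧ (∀ z, u (v z) = ℓ ^ c • z)
  le : ∀ i N : ℕ, Nat.card (H i N) ≤ C * (ℓ ^ N) ^ b i
  ge : ∀ i N : ℕ, (ℓ ^ N) ^ b i ≤ C * Nat.card (H i N)

theorem Ranks.congr {ℓ : ℕ} {H : ℕ → ℕ → Type w} [∀ i N, AddCommGroup (H i N)] {b : ℕ → ℕ}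
    {c C : ℕ} (h : Ranks ℓ H b c C) {H' : ℕ → ℕ → Type w'} [∀ i N, AddCommGroup (H' i N)]
    (e : ∀ i N, H i N ≃+ H' i N) : Ranks ℓ H' b c C where
  uv i N := by
    obtain ⟨u, v, h1, h2⟩ := h.uv i N
    refine ⟨(e i N).toAddMonoidHom.comp u, v.comp (e i N).symm.toAddMonoidHom, fun x => ?_,
      fun z => ?_⟩
    · change v ((e i N).symm ((e i N) (u x))) = _
      rw [AddEquiv.symm_apply_apply, h1]
    · change (e i N) (u (v ((e i N).symm z))) = _
      rw [h2, map_nsmul, AddEquiv.apply_symm_apply]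
  le i N := by rw [← Nat.card_congr (e i N).toEquiv]; exact h.le i N
  ge i N := by rw [← Nat.card_congr (e i N).toEquiv]; exact h.ge i N

section Final

variable {ℓ : ℕ} {H : ℕ → ℕ → Type w} [∀ i N, AddCommGroup (H i N)] (S : GSys ℓ H)
  [∀ i N, Finite (H i N)]

include S

/-- **Uniform ranks.** -/
theorem exists_rank (hℓ : ℓ.Prime) (D : ℕ) (hD : ∀ i N, D < i → Subsingleton (H i N)) :
    ∃ (b : ℕ → ℕ) (c C : ℕ), 0 < C ∧ (∀ i, D < i → b i = 0) ∧ Ranks ℓ H b c C ∧
      ∑ i ∈ Finset.range (D + 1), (-1 : ℤ) ^ i * (b i : ℤ) =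
        ∑ i ∈ Finset.range (D + 1), (-1 : ℤ) ^ i * (Nat.log ℓ (Nat.card (H i 1)) : ℤ) := by
  classical
  have : Fact ℓ.Prime := ⟨hℓ⟩
  have hℓ0 : 0 < ℓ := hℓ.pos
  choose t ht using fun i => S.exists_torsion_bound i
  let N₀ := (Finset.range (D + 2)).sup t
  have htor : ∀ i ≤ D + 1, ∀ (m : ℕ) (x : S.lim i), ℓ ^ m • x = 0 → ℓ ^ N₀ • x = 0 := by
    intro i hi m x hx
    have h1 : t i ≤ N₀ := Finset.le_sup (f := t) (Finset.mem_range.2 (by omega))
    obtain ⟨j, hj⟩ := Nat.exists_eq_add_of_le' h1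
    rw [hj, pow_add, mul_nsmul', ht i m x hx, nsmul_zero]
  have hex : ∀ i, ∃ b : ℕ, (D < i → b = 0) ∧ ∀ N : ℕ, ∃ (u : (Fin b → ZMod (ℓ ^ N)) →+ H i N)
      (v : H i N →+ (Fin b → ZMod (ℓ ^ N))),
      (∀ x, v (u x) = ℓ ^ (3 * N₀) • x) ∧ (∀ z, u (v z) = ℓ ^ (3 * N₀) • z) := by
    intro i
    by_cases hi : D < i
    · refine ⟨0, fun _ => rfl, fun N => ?_⟩
      have := hD i N hi
      exact ⟨0, 0, fun x => Subsingleton.elim _ _, fun z => Subsingleton.elim _ _⟩
    · obtain ⟨b, hb⟩ := S.exists_unif i N₀ (htor i (by omega)) (htor (i + 1) (by omega))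
      exact ⟨b, fun h => absurd h hi, hb⟩
  choose b hb0 hb using hex
  -- a bound for `|H j 1|`
  let C₁ := (Finset.range (D + 1)).sup (fun j => Nat.card (H j 1)) + 1
  have hC₁ : ∀ j, Nat.card (H j 1) ≤ C₁ := by
    intro j
    by_cases hj : D < j
    · have := hD j 1 hj
      exact (Finite.card_le_one_iff_subsingleton.2 inferInstance).trans (Nat.le_add_left 1 _)
    · exact (Finset.le_sup (f := fun j => Nat.card (H j 1)) (Finset.mem_range.2 (by omega))).trans
        (Nat.le_succ _)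
  let B := (Finset.range (D + 1)).sup b
  have hB : ∀ i, b i ≤ B := by
    intro i
    by_cases hi : D < i
    · rw [hb0 i hi]; exact Nat.zero_le _
    · exact Finset.le_sup (f := b) (Finset.mem_range.2 (by omega))
  let C := (C₁ * C₁) ^ (3 * N₀) + (ℓ ^ (3 * N₀)) ^ B
  have hC : 0 < C := Nat.add_pos_right _ (pow_pos (pow_pos hℓ0 _) _)
  have hbd : ∀ i N : ℕ, Nat.card (H i N) ≤ C * (ℓ ^ N) ^ b i ∧
      (ℓ ^ N) ^ b i ≤ C * Nat.card (H i N) := by
    intro i N
    obtain ⟨u, v, h1, h2⟩ := hb i N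
    have : NeZero (ℓ ^ N) := ⟨pow_ne_zero _ hℓ0.ne'⟩
    have h3 : Nat.card (tor (H i N) (ℓ ^ (3 * N₀))) ≤ (C₁ * C₁) ^ (3 * N₀) :=
      (card_tor_pow_le ℓ (3 * N₀)).trans (Nat.pow_le_pow_left (card_tor_le S i N C₁ hC₁) _)
    obtain ⟨h4, h5⟩ := card_bounds (pow_pos hℓ0 _) u v h1 h2 h3
    refine ⟨h4.trans (Nat.mul_le_mul_right _ (Nat.le_add_right _ _)), h5.trans
      (Nat.mul_le_mul_right _ ?_)⟩
    exact (Nat.pow_le_pow_right (pow_pos hℓ0 _) (hB i)).trans (Nat.le_add_left _ _)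
  refine ⟨b, 3 * N₀, C, hC, hb0, ⟨hb, fun i N => (hbd i N).1, fun i N => (hbd i N).2⟩, ?_⟩
  -- comparison of the Euler characteristics
  have hlog : 0 < Real.log ℓ := Real.log_pos (by exact_mod_cast hℓ.one_lt)
  have h1 : ∀ i N : ℕ, |(N : ℝ) * (b i * Real.log ℓ) - lg (H i N)| ≤ Real.log C := by
    intro i N
    have hc : (0 : ℝ) < Nat.card (H i N) := by exact_mod_cast Nat.card_pos
    have hp : (0 : ℝ) < ((ℓ : ℝ) ^ N) ^ b i := by
      have : (0 : ℝ) < ℓ := by exact_mod_cast hℓ0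
      positivity
    have hCr : (0 : ℝ) < C := by exact_mod_cast hC
    have e : Real.log (((ℓ : ℝ) ^ N) ^ b i) = (N : ℝ) * (b i * Real.log ℓ) := by
      rw [Real.log_pow, Real.log_pow]
      ring
    obtain ⟨h2, h3⟩ := hbd i N
    have h2' : (Nat.card (H i N) : ℝ) ≤ C * ((ℓ : ℝ) ^ N) ^ b i := by exact_mod_cast h2
    have h3' : ((ℓ : ℝ) ^ N) ^ b i ≤ C * Nat.card (H i N) := by exact_mod_cast h3
    have h4 := Real.log_le_log hc h2'
    have h5 := Real.log_le_log hp h3'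
    rw [Real.log_mul hCr.ne' hp.ne', e] at h4
    rw [Real.log_mul hCr.ne' hc.ne', e] at h5
    unfold lg
    rw [abs_le]
    constructor <;> linarith
  have h2 : ∑ i ∈ Finset.range (D + 1), (-1 : ℝ) ^ i * (b i * Real.log ℓ) -
      ∑ i ∈ Finset.range (D + 1), (-1 : ℝ) ^ i * lg (H i 1) = 0 := by
    apply eq_zero_of_bounded (C := (D + 1) * Real.log C)
    intro N
    have e : (N : ℝ) * (∑ i ∈ Finset.range (D + 1), (-1 : ℝ) ^ i * (b i * Real.log ℓ) -
        ∑ i ∈ Finset.range (D + 1), (-1 : ℝ) ^ i * lg (H i 1)) =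
        ∑ i ∈ Finset.range (D + 1), (-1 : ℝ) ^ i * ((N : ℝ) * (b i * Real.log ℓ) - lg (H i N)) := by
      rw [mul_sub, ← alt_sum_eq S D hD N, Finset.mul_sum, ← Finset.sum_sub_distrib]
      refine Finset.sum_congr rfl fun i _ => ?_
      ring
    rw [e]
    refine (Finset.abs_sum_le_sum_abs _ _).trans ?_
    have h3 : ∀ i ∈ Finset.range (D + 1),
        |(-1 : ℝ) ^ i * ((N : ℝ) * (b i * Real.log ℓ) - lg (H i N))| ≤ Real.log C := by
      intro i _
      rw [abs_mul, abs_pow, abs_neg, abs_one, one_pow, one_mul]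
      exact h1 i N
    refine (Finset.sum_le_sum h3).trans (le_of_eq ?_)
    rw [Finset.sum_const, Finset.card_range, nsmul_eq_mul]
    push_cast
    ring
  have h3 : ∑ i ∈ Finset.range (D + 1), (-1 : ℝ) ^ i * lg (H i 1) =
      ∑ i ∈ Finset.range (D + 1), (-1 : ℝ) ^ i * (Nat.log ℓ (Nat.card (H i 1)) * Real.log ℓ) := by
    refine Finset.sum_congr rfl fun i _ => ?_
    rw [lg_eq_log hℓ (H i 1) (fun x => by have := S.kill i 1 x; rwa [pow_one] at this)]
  rw [h3, ← Finset.sum_sub_distrib] at h2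
  have h4 : (((∑ i ∈ Finset.range (D + 1), (-1 : ℤ) ^ i * (b i : ℤ)) -
      ∑ i ∈ Finset.range (D + 1), (-1 : ℤ) ^ i * (Nat.log ℓ (Nat.card (H i 1)) : ℤ) : ℤ) : ℝ) *
      Real.log ℓ = 0 := by
    rw [← h2]
    push_cast
    rw [sub_mul, Finset.sum_mul, Finset.sum_mul, ← Finset.sum_sub_distrib]
    refine Finset.sum_congr rfl fun i _ => ?_
    ring
  rcases mul_eq_zero.1 h4 with h5 | h5
  · rw [Int.cast_eq_zero, sub_eq_zero] at h5
    exact h5
  · exact absurd h5 hlog.ne'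

end Final

end Groth.Agent.Vancyc.H684.UnifCount
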