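import Groth.Agent.Sga5.H861.Kun
import Groth.Agent.Vancyc.H684.UnifCount
import Mathlib.GroupTheory.OrderOfElement

/-!
# Künneth up to bounded torsion and the self-intersection of the diagonal, abstract form

`U : C` (the unit sheaf of `X`), `W : D` (the unit sheaf of `X × X`), `P`, `Q` the pull-backs along the
projections, `I` the pull-back along `t ↦ (x₀, t)`, `G` the pull-back along the diagonal, `N = 2d`.
-/

set_option autoImplicit false

universe w w'

open CategoryTheory CategoryTheory.Abelian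

namespace Groth.Agent.Vancyc.H684.KunnErr

open Groth.Agent.Sga5.H861.Kun

variable {C : Type*} [Category C] [Abelian C] [HasExt.{w} C]
variable {D : Type*} [Category D] [Abelian D] [HasExt.{w'} D]
variable {U : C} {W : D} {n : ℕ}
  [∀ i, Module (ZMod n) (Ext.{w} U U i)] [∀ i, Module (ZMod n) (Ext.{w'} W W i)]
  {N : ℕ}

/-- `z ↦ x z w`. -/
noncomputable def quad {i j : ℕ} (h : i + j = N) (x : Ext.{w'} W W i) (w : Ext.{w'} W W j) :
    Ext.{w'} W W N →+ Ext.{w'} W W (N + N) :=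
  AddMonoidHom.mk' (fun z => (x.comp z (rfl : i + N = i + N)).comp w (by omega)) (fun a b => by
    rw [Ext.comp_add, Ext.add_comp])

omit [∀ i, Module (ZMod n) (Ext.{w} U U i)] [∀ i, Module (ZMod n) (Ext.{w'} W W i)] in
theorem quad_apply {i j : ℕ} (h : i + j = N) (x : Ext.{w'} W W i) (w : Ext.{w'} W W j)
    (z : Ext.{w'} W W N) :
    quad h x w z = (x.comp z (rfl : i + N = i + N)).comp w (by omega) := rfl

/-- The data of the problem. -/
structure Data (U : C) (W : D) (n N : ℕ) [∀ i, Module (ZMod n) (Ext.{w} U U i)]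
    [∀ i, Module (ZMod n) (Ext.{w'} W W i)] where
  /-- `p^*` -/
  P : MulMap.{w, w'} U W
  /-- `q^*` -/
  Q : MulMap.{w, w'} U W
  /-- slice -/
  I : MulMap.{w', w} W U
  /-- diagonal -/
  G : MulMap.{w', w} W U
  even : Even N
  GP : ∀ (i : ℕ) (x : Ext.{w} U U i), G.f i (P.f i x) = x
  GQ : ∀ (i : ℕ) (x : Ext.{w} U U i), G.f i (Q.f i x) = x
  IQ : ∀ (i : ℕ) (x : Ext.{w} U U i), I.f i (Q.f i x) = x
  IP : ∀ (i : ℕ) (x : Ext.{w} U U i), 0 < i → I.f i (P.f i x) = 0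
  IP0 : I.f 0 (P.f 0 (Ext.mk₀ (𝟙 U))) = Ext.mk₀ (𝟙 U)
  scalar : ∀ x : Ext.{w} U U 0, ∃ a : ZMod n, x = a • Ext.mk₀ (𝟙 U)
  P1 : P.f 0 (Ext.mk₀ (𝟙 U)) = Ext.mk₀ (𝟙 W)
  /-- top class -/
  γ : Ext.{w} U U N
  /-- trace -/
  T : Ext.{w} U U N →+ ZMod n
  T_spec : ∀ x, x = T x • γ
  top : ∀ (i : ℕ) (x : Ext.{w} U U i), N < i → x = 0
  /-- trace on `X × X` -/
  t : Ext.{w'} W W (N + N) →+ ZMod n
  unit : IsUnit (t ((P.f N γ).comp (Q.f N γ) rfl))
  comm : ∀ {i j k : ℕ} (h : i + j = k) (x : Ext.{w'} W W i) (y : Ext.{w'} W W j),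
    x.comp y h = ((-1 : ℤ) ^ (i * j)) • (y.comp x (by omega : j + i = k))

namespace Data

variable (S : Data U W n N)

/-- `∫ p^*γ q^*γ` -/
noncomputable def uu : ZMod n := S.t ((S.P.f N S.γ).comp (S.Q.f N S.γ) rfl)

/-- `t (P α · Q β) = T α · T β · u` in complementary degrees `N`, `0` otherwise. -/
theorem t_PQ {i j : ℕ} (h : i + j = N + N) (α : Ext.{w} U U i) (β : Ext.{w} U U j) (hi : i ≠ N) :
    S.t ((S.P.f i α).comp (S.Q.f j β) h) = 0 := by
  rcases lt_or_gt_of_ne hi with h1 | h1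
  · rw [S.top j β (by omega), map_zero, Ext.comp_zero, map_zero]
  · rw [S.top i α h1, map_zero, Ext.zero_comp, map_zero]

theorem t_PQ' (α β : Ext.{w} U U N) :
    S.t ((S.P.f N α).comp (S.Q.f N β) rfl) = S.T α * S.T β * S.uu := by
  have h1 : (S.P.f N α).comp (S.Q.f N β) (rfl : N + N = N + N) =
      (S.T α * S.T β) • ((S.P.f N S.γ).comp (S.Q.f N S.γ) rfl) := by
    conv_lhs => rw [S.T_spec α, S.T_spec β, MulMap.smul, MulMap.smul, comp_smul, smul_comp,
      smul_smul]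
    rw [mul_comm]
  rw [h1, ZMod.map_smul, smul_eq_mul]
  rfl

theorem neg_one_zsmul_even {M : Type*} [AddCommGroup M] (m : ℕ) (hm : Even m) (x : M) :
    ((-1 : ℤ) ^ m) • x = x := by
  rw [hm.neg_one_pow, one_zsmul]

theorem zsmul_comp {X Y Z : D} {i j k : ℕ} (m : ℤ) (a : Ext.{w'} X Y i) (b : Ext.{w'} Y Z j)
    (h : i + j = k) : (m • a).comp b h = m • (a.comp b h) :=
  map_zsmul (AddMonoidHom.mk' (fun a : Ext.{w'} X Y i => a.comp b h) (fun _ _ => Ext.add_comp _ _ _ _)) m a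

theorem comp_zsmul {X Y Z : D} {i j k : ℕ} (m : ℤ) (a : Ext.{w'} X Y i) (b : Ext.{w'} Y Z j)
    (h : i + j = k) : a.comp (m • b) h = m • (a.comp b h) :=
  map_zsmul (AddMonoidHom.mk' (fun b : Ext.{w'} Y Z j => a.comp b h) (fun _ _ => Ext.comp_add _ _ _ _)) m b

theorem nsmul_comp {X Y Z : D} {i j k : ℕ} (m : ℕ) (a : Ext.{w'} X Y i) (b : Ext.{w'} Y Z j)
    (h : i + j = k) : (m • a).comp b h = m • (a.comp b h) :=
  map_nsmul (AddMonoidHom.mk' (fun a : Ext.{w'} X Y i => a.comp b h) (fun _ _ => Ext.add_comp _ _ _ _)) m a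

theorem comp_nsmul {X Y Z : D} {i j k : ℕ} (m : ℕ) (a : Ext.{w'} X Y i) (b : Ext.{w'} Y Z j)
    (h : i + j = k) : a.comp (m • b) h = m • (a.comp b h) :=
  map_nsmul (AddMonoidHom.mk' (fun b : Ext.{w'} Y Z j => a.comp b h) (fun _ _ => Ext.comp_add _ _ _ _)) m b

/-- The rearrangement `Q x · (P a · Q b) · P w = ± P (a w) · Q (x b)`. -/
theorem quad_QP {i j i' j' : ℕ} (h : i + j = N) (h' : i' + j' = N) (x : Ext.{w} U U i)
    (w : Ext.{w} U U j) (a : Ext.{w} U U i') (b : Ext.{w} U U j') :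
    quad h (S.Q.f i x) (S.P.f j w) ((S.P.f i' a).comp (S.Q.f j' b) h') =
      ((-1 : ℤ) ^ (i * i') * (-1 : ℤ) ^ ((i + j') * j)) •
        ((S.P.f (i' + j) (a.comp w rfl)).comp (S.Q.f (i + j') (x.comp b rfl)) (by omega)) := by
  rw [quad_apply]
  have e1 : (S.Q.f i x).comp ((S.P.f i' a).comp (S.Q.f j' b) h') (rfl : i + N = i + N) =
      ((S.Q.f i x).comp (S.P.f i' a) (rfl : i + i' = i + i')).comp (S.Q.f j' b) (by omega) :=
    (Ext.comp_assoc _ _ _ rfl h' (by omega)).symm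
  rw [e1, S.comm (rfl : i + i' = i + i') (S.Q.f i x) (S.P.f i' a), zsmul_comp, zsmul_comp]
  have e2 : ((S.P.f i' a).comp (S.Q.f i x) (by omega : i' + i = i + i')).comp (S.Q.f j' b)
      (by omega : i + i' + j' = i + N) = (S.P.f i' a).comp (S.Q.f (i + j') (x.comp b rfl))
        (by omega : i' + (i + j') = i + N) := by
    rw [MulMap.mul]
    exact Ext.comp_assoc _ _ _ _ rfl (by omega)
  rw [e2]
  have e3 : ((S.P.f i' a).comp (S.Q.f (i + j') (x.comp b rfl))
      (by omega : i' + (i + j') = i + N)).comp (S.P.f j w) (by omega : i + N + j = N + N) =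
      (S.P.f i' a).comp ((S.Q.f (i + j') (x.comp b rfl)).comp (S.P.f j w)
        (rfl : i + j' + j = i + j' + j)) (by omega) :=
    Ext.comp_assoc _ _ _ _ rfl (by omega)
  have e4 : (S.P.f i' a).comp ((S.P.f j w).comp (S.Q.f (i + j') (x.comp b rfl))
      (by omega : j + (i + j') = i + j' + j)) (by omega : i' + (i + j' + j) = N + N) =
      (S.P.f (i' + j) (a.comp w rfl)).comp (S.Q.f (i + j') (x.comp b rfl)) (by omega) := by
    rw [S.P.mul (rfl : i' + j = i' + j) a w]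
    exact (Ext.comp_assoc (S.P.f i' a) (S.P.f j w) (S.Q.f (i + j') (x.comp b rfl)) rfl
      (by omega) (by omega)).symm
  rw [e3, S.comm (rfl : i + j' + j = i + j' + j) _ (S.P.f j w), comp_zsmul, ← mul_zsmul, e4]

/-- (A), different degrees. -/
theorem t_quad_QP_ne {i j i' j' : ℕ} (h : i + j = N) (h' : i' + j' = N) (hne : i' ≠ i)
    (x : Ext.{w} U U i) (w : Ext.{w} U U j) (a : Ext.{w} U U i') (b : Ext.{w} U U j') :
    S.t (quad h (S.Q.f i x) (S.P.f j w) ((S.P.f i' a).comp (S.Q.f j' b) h')) = 0 := by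
  rw [S.quad_QP, map_zsmul, S.t_PQ _ _ _ (by omega), smul_zero]

/-- (A), same degrees. -/
theorem t_quad_QP_eq {i j : ℕ} (h : i + j = N) (x : Ext.{w} U U i) (w : Ext.{w} U U j)
    (a : Ext.{w} U U i) (b : Ext.{w} U U j) :
    S.t (quad h (S.Q.f i x) (S.P.f j w) ((S.P.f i a).comp (S.Q.f j b) h)) =
      (-1) ^ i * (S.T (a.comp w h) * S.T (x.comp b h) * S.uu) := by
  rw [S.quad_QP, map_zsmul]
  have e : S.t ((S.P.f (i + j) (a.comp w rfl)).comp (S.Q.f (i + j) (x.comp b rfl))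
      (by omega : i + j + (i + j) = N + N)) = S.T (a.comp w h) * S.T (x.comp b h) * S.uu := by
    rw [← S.t_PQ']
    subst h
    rfl
  rw [e]
  have e1 : Even ((i + j) * j) := by
    rw [h]
    exact S.even.mul_right j
  rw [e1.neg_one_pow, mul_one, zsmul_eq_mul]
  congr 1
  push_cast
  rcases Nat.even_or_odd i with hi | hi
  · rw [hi.neg_one_pow, (hi.mul_right i).neg_one_pow]
  · rw [hi.neg_one_pow, (hi.mul hi).neg_one_pow]

/-- (B) -/
theorem t_quad_PP {i j i' j' : ℕ} (h : i + j = N) (h' : i' + j' = N) (x : Ext.{w} U U i)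
    (w : Ext.{w} U U j) (a : Ext.{w} U U i') (b : Ext.{w} U U j') :
    S.t (quad h (S.P.f i x) (S.P.f j w) ((S.P.f i' a).comp (S.Q.f j' b) h')) =
      S.T (S.I.f N ((S.P.f i' a).comp (S.Q.f j' b) h')) * S.T (x.comp w h) * S.uu := by
  rcases Nat.eq_zero_or_pos i' with rfl | hi'
  · obtain rfl : j' = N := by omega
    obtain ⟨α, rfl⟩ := S.scalar a
    have e0 : (S.P.f 0 (α • Ext.mk₀ (𝟙 U))).comp (S.Q.f j' b) h' = α • S.Q.f j' b := by
      rw [MulMap.smul, S.P1, smul_comp, Ext.mk₀_id_comp]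
    rw [e0]
    simp only [ZMod.map_smul]
    rw [S.IQ, quad_apply, S.comm (rfl : i + j' = i + j') (S.P.f i x) (S.Q.f j' b)]
    rw [neg_one_zsmul_even _ (S.even.mul_left i)]
    have e1 : ((S.Q.f j' b).comp (S.P.f i x) (by omega : j' + i = i + j')).comp (S.P.f j w)
        (by omega : i + j' + j = j' + j') = (S.Q.f j' b).comp (S.P.f j' (x.comp w h)) rfl := by
      rw [MulMap.mul]
      exact Ext.comp_assoc _ _ _ _ h (by omega)
    rw [e1, S.comm rfl (S.Q.f j' b), neg_one_zsmul_even _ (S.even.mul_left j'), S.t_PQ',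
      smul_eq_mul, smul_eq_mul]
    ring
  · rw [MulMap.mul, S.IP i' a hi', Ext.zero_comp, map_zero, zero_mul, zero_mul, quad_apply]
    have e1 : (S.P.f i x).comp ((S.P.f i' a).comp (S.Q.f j' b) h') (rfl : i + N = i + N) =
        (S.P.f (i + i') (x.comp a rfl)).comp (S.Q.f j' b) (by omega) := by
      rw [MulMap.mul]
      exact (Ext.comp_assoc _ _ _ rfl h' (by omega)).symm
    have e2 : ((S.P.f (i + i') (x.comp a rfl)).comp (S.Q.f j' b)
        (by omega : i + i' + j' = i + N)).comp (S.P.f j w) (by omega : i + N + j = N + N) =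
        ((-1 : ℤ) ^ (j' * j)) • ((S.P.f (i + i' + j) ((x.comp a rfl).comp w rfl)).comp (S.Q.f j' b)
          (by omega)) := by
      rw [Ext.comp_assoc _ (S.Q.f j' b) (S.P.f j w) _ (rfl : j' + j = j' + j) (by omega),
        S.comm (rfl : j' + j = j' + j) (S.Q.f j' b), comp_zsmul,
        S.P.mul (rfl : i + i' + j = i + i' + j) (x.comp a rfl) w]
      congr 1
      exact (Ext.comp_assoc (S.P.f (i + i') (x.comp a rfl)) (S.P.f j w) (S.Q.f j' b) rfl
        (by omega) (by omega)).symm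
    rw [e1, e2, map_zsmul, S.top _ ((x.comp a rfl).comp w rfl) (by omega), map_zero,
      Ext.zero_comp, map_zero, smul_zero]

/-- (C) -/
theorem T_G {i j : ℕ} (h : i + j = N) (a : Ext.{w} U U i) (b : Ext.{w} U U j) :
    S.T (S.G.f N ((S.P.f i a).comp (S.Q.f j b) h)) = S.T (a.comp b h) := by
  rw [MulMap.mul, S.GP, S.GQ]

/-- The subgroup spanned by the products `P a · Q b`. -/
noncomputable def cr : AddSubgroup (Ext.{w'} W W N) :=
  AddSubgroup.closure {z | ∃ (i j : ℕ) (h : i + j = N) (a : Ext.{w} U U i) (b : Ext.{w} U U j),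
    z = (S.P.f i a).comp (S.Q.f j b) h}

theorem mem_cr {i j : ℕ} (h : i + j = N) (a : Ext.{w} U U i) (b : Ext.{w} U U j) :
    (S.P.f i a).comp (S.Q.f j b) h ∈ S.cr :=
  AddSubgroup.subset_closure ⟨i, j, h, a, b, rfl⟩

/-- Two additive maps agreeing on products agree on `cr`. -/
theorem cr_ext {A : Type*} [AddCommGroup A] (f g : Ext.{w'} W W N →+ A)
    (hfg : ∀ {i j : ℕ} (h : i + j = N) (a : Ext.{w} U U i) (b : Ext.{w} U U j),
      f ((S.P.f i a).comp (S.Q.f j b) h) = g ((S.P.f i a).comp (S.Q.f j b) h))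
    (z : Ext.{w'} W W N) (hz : z ∈ S.cr) : f z = g z := by
  have h1 : S.cr ≤ (f - g).ker := by
    refine (AddSubgroup.closure_le _).2 ?_
    rintro _ ⟨i, j, h, a, b, rfl⟩
    exact sub_eq_zero.2 (hfg h a b)
  exact sub_eq_zero.1 (h1 hz)

end Data

end Groth.Agent.Vancyc.H684.KunnErr
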