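import Mathlib.CategoryTheory.CofilteredSystem
import Mathlib.CategoryTheory.Functor.OfSequence
import Mathlib.LinearAlgebra.FreeModule.Finite.Basic
import Mathlib.LinearAlgebra.Dimension.Free
import Mathlib.Algebra.Module.ZMod
import Mathlib.Data.ZMod.Basic
import Mathlib.Algebra.Field.ZMod
import Mathlib.GroupTheory.QuotientGroup.Basic
import Mathlib.FieldTheory.Finiteness

/-!
# Inverse systems of finite abelian groups of `ℤ/ℓ^N`-type: uniform structure

Pure algebra.  `Sys ℓ H` : a system of finite abelian groups `H N`, `N : ℕ`, with reductions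
`r : H M → H N` (`N ≤ M`) and maps `α m N : H N → H (m + N)` ("multiplication by `ℓ^m`"), exact at
`H (m + N)`.  With `T = lim H N`, there are `b`, `c` such that for every `N` there are maps
`(ℤ/ℓ^N)^b → H N` and back whose composites are `ℓ^c`, as soon as all cokernels of `T → H m` are
killed by a fixed power of `ℓ`.
-/

set_option autoImplicit false

universe w w'

open CategoryTheory

namespace Groth.Agent.Vancyc.H684.UnifAlg

/-- König's lemma for sequences of finite sets. -/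
theorem exists_compatible {Y : ℕ → Type w} [∀ n, Finite (Y n)] [∀ n, Nonempty (Y n)]
    (π : ∀ n, Y (n + 1) → Y n) : ∃ y : ∀ n, Y n, ∀ n, π n (y (n + 1)) = y n := by
  let F : ℕᵒᵖ ⥤ Type w := Functor.ofOpSequence (X := Y) (fun n => (↾ (π n)))
  have h1 : ∀ j : ℕᵒᵖ, Finite (F.obj j) := fun j => inferInstanceAs (Finite (Y j.unop))
  have h2 : ∀ j : ℕᵒᵖ, Nonempty (F.obj j) := fun j => inferInstanceAs (Nonempty (Y j.unop))
  obtain ⟨s, hs⟩ := nonempty_sections_of_finite_inverse_system F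
  refine ⟨fun n => s (Opposite.op n), fun n => ?_⟩
  have h3 := hs (homOfLE (Nat.le_succ n)).op
  rw [Functor.ofOpSequence_map_homOfLE_succ] at h3
  exact h3

/-- A map whose kernel and cokernel are killed by `p`, `q` is invertible up to `p q`. -/
theorem exists_back {A M : Type*} [AddCommGroup A] [AddCommGroup M] (u : A →+ M) (p q : ℕ)
    (hp : ∀ x, u x = 0 → p • x = 0) (hq : ∀ z, ∃ x, u x = q • z) :
    ∃ v : M →+ A, (∀ x, v (u x) = (p * q) • x) ∧ (∀ z, u (v z) = (p * q) • z) := by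
  choose s hs using hq
  have key : ∀ x y, u x = u y → p • x = p • y := by
    intro x y h
    have := hp (x - y) (by rw [map_sub, h, sub_self])
    rw [nsmul_sub, sub_eq_zero] at this
    exact this
  refine ⟨AddMonoidHom.mk' (fun z => p • s z) (fun a b => ?_), fun x => ?_, fun z => ?_⟩
  · change p • s (a + b) = p • s a + p • s b
    rw [← nsmul_add]
    apply key
    rw [hs, map_add, hs, hs, nsmul_add]
  · change p • s (u x) = (p * q) • x
    rw [mul_comm, mul_nsmul]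
    apply key
    rw [hs, map_nsmul]
  · change u (p • s z) = (p * q) • z
    rw [map_nsmul, hs, mul_comm, mul_nsmul]

section Limit

variable {T : Type w} [AddCommGroup T] (ℓ : ℕ)

/-- `ℓ • T`. -/
abbrev mulRange (T : Type w) [AddCommGroup T] (ℓ : ℕ) : AddSubgroup T := (nsmulAddMonoidHom (α := T) ℓ).range

theorem mem_mulRange (x : T) : x ∈ mulRange T ℓ ↔ ∃ y, ℓ • y = x := Iff.rfl

/-- In a separated group `T` with `T/ℓ` finite, the `ℓ`-power torsion is killed by one power. -/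
theorem exists_torsion_bound (hfin : Finite (T ⧸ mulRange T ℓ))
    (hsep : ∀ x : T, (∀ m : ℕ, ∃ y, ℓ ^ m • y = x) → x = 0) :
    ∃ N₀ : ℕ, ∀ (m : ℕ) (x : T), ℓ ^ m • x = 0 → ℓ ^ N₀ • x = 0 := by
  classical
  -- the chain of subgroups `{x mod ℓ : ℓ^m x ∈ ℓ^(m+1) T}`
  let K : ℕ →o Set (T ⧸ mulRange T ℓ) :=
    { toFun := fun m => {c | ∃ x : T, QuotientAddGroup.mk x = c ∧ ∃ y, ℓ ^ (m + 1) • y = ℓ ^ m • x}
      monotone' := by
        refine monotone_nat_of_le_succ fun m c hc => ?_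
        obtain ⟨x, hx, y, hy⟩ := hc
        refine ⟨x, hx, y, ?_⟩
        rw [pow_succ ℓ (m + 1), mul_comm, mul_nsmul', hy, ← mul_nsmul', mul_comm, ← pow_succ] }
  obtain ⟨N₀, hN₀⟩ := WellFoundedGT.monotone_chain_condition K
  have key : ∀ m, N₀ ≤ m → ∀ x : T, (∃ y, ℓ ^ (m + 1) • y = ℓ ^ m • x) →
      ∃ y, ℓ ^ (N₀ + 1) • y = ℓ ^ N₀ • x := by
    intro m hm x hx
    have h1 : (QuotientAddGroup.mk x : T ⧸ mulRange T ℓ) ∈ K N₀ := by
      rw [hN₀ m hm]
      exact ⟨x, rfl, hx⟩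
    obtain ⟨x', hx', y, hy⟩ := h1
    obtain ⟨z, hz⟩ := QuotientAddGroup.eq.1 hx'
    have hz' : ℓ • z = -x' + x := hz
    refine ⟨y + z, ?_⟩
    rw [nsmul_add, hy, pow_succ, mul_nsmul', hz', ← nsmul_add]
    congr 1
    abel
  -- one step
  have step : ∀ x : T, ℓ ^ (N₀ + 1) • x = 0 → ℓ ^ N₀ • x = 0 := by
    intro x hx
    apply hsep
    have h2 : ∀ j : ℕ, ∃ y, ℓ ^ (N₀ + j) • y = ℓ ^ N₀ • x := by
      intro j
      induction j with
      | zero => exact ⟨x, rfl⟩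
      | succ j ih =>
        obtain ⟨y, hy⟩ := ih
        have h3 : ∃ z, ℓ ^ (N₀ + j + 1 + 1) • z = ℓ ^ (N₀ + j + 1) • y := by
          refine ⟨0, ?_⟩
          rw [nsmul_zero, pow_succ, mul_comm, mul_nsmul', hy, ← mul_nsmul', mul_comm, ← pow_succ, hx]
        obtain ⟨z, hz⟩ := key (N₀ + j + 1) (by omega) y h3
        refine ⟨z, ?_⟩
        rw [← hy]
        have e1 : N₀ + (j + 1) = j + (N₀ + 1) := by omega
        have e2 : N₀ + j = j + N₀ := by omega
        rw [e1, e2, pow_add ℓ j (N₀ + 1), pow_add ℓ j N₀, mul_nsmul', mul_nsmul', hz]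
    intro m
    obtain ⟨y, hy⟩ := h2 m
    refine ⟨ℓ ^ N₀ • y, ?_⟩
    rw [← hy, ← mul_nsmul', ← pow_add, add_comm]
  refine ⟨N₀, fun m => ?_⟩
  induction m with
  | zero =>
    intro x hx
    rw [pow_zero, one_nsmul] at hx
    rw [hx, nsmul_zero]
  | succ m ih =>
    intro x hx
    have h1 : ℓ ^ N₀ • (ℓ • x) = 0 := ih (ℓ • x) (by rw [← mul_nsmul', ← pow_succ, hx])
    apply step
    rw [pow_succ, mul_nsmul', h1]

theorem exists_basis_module [hℓ : Fact ℓ.Prime] (V : Type w) [AddCommGroup V] [Finite V]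
    [Module (ZMod ℓ) V] :
    ∃ (b : ℕ) (B : Fin b → V), (∀ x : V, ∃ c : Fin b → ℤ, x = ∑ a, c a • B a) ∧
      (∀ c : Fin b → ℤ, ∑ a, c a • B a = 0 → ∀ a, (ℓ : ℤ) ∣ c a) := by
  have : Module.Finite (ZMod ℓ) V := Module.Finite.of_finite
  have hfree : Module.Free (ZMod ℓ) V := Module.Free.of_divisionRing _ _
  let B := Module.finBasis (ZMod ℓ) V
  refine ⟨Module.finrank (ZMod ℓ) V, B, fun x => ?_, fun c hc a => ?_⟩
  · choose c hc using fun a => ZMod.intCast_surjective (B.repr x a)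
    refine ⟨c, ?_⟩
    conv_lhs => rw [← B.sum_repr x]
    refine Finset.sum_congr rfl fun a _ => ?_
    rw [← hc, Int.cast_smul_eq_zsmul]
  · have h2 : ∑ a, (c a : ZMod ℓ) • B a = 0 := by
      rw [← hc]
      refine Finset.sum_congr rfl fun a _ => ?_
      rw [Int.cast_smul_eq_zsmul]
    have h3 := Fintype.linearIndependent_iff.1 B.linearIndependent _ h2 a
    exact (ZMod.intCast_zmod_eq_zero_iff_dvd _ _).1 h3

/-- Basis of a finite abelian group killed by a prime. -/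
theorem exists_basis_killed [hℓ : Fact ℓ.Prime] (V : Type w) [AddCommGroup V] [Finite V]
    (hV : ∀ x : V, ℓ • x = 0) :
    ∃ (b : ℕ) (B : Fin b → V), (∀ x : V, ∃ c : Fin b → ℤ, x = ∑ a, c a • B a) ∧
      (∀ c : Fin b → ℤ, ∑ a, c a • B a = 0 → ∀ a, (ℓ : ℤ) ∣ c a) :=
  @exists_basis_module ℓ hℓ V _ _ (AddCommGroup.zmodModule hV)

/-- Lifts of a basis mod `ℓ` in a group without `ℓ`-torsion. -/
theorem exists_basis_tf [hℓ : Fact ℓ.Prime] (hfin : Finite (T ⧸ mulRange T ℓ))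
    (htf : ∀ x : T, ℓ • x = 0 → x = 0) :
    ∃ (b : ℕ) (e : Fin b → T),
      (∀ (N : ℕ) (x : T), ∃ (c : Fin b → ℤ) (x' : T), x = ∑ a, c a • e a + ℓ ^ N • x') ∧
      (∀ (N : ℕ) (c : Fin b → ℤ) (x : T), ∑ a, c a • e a = ℓ ^ N • x →
        ∀ a, ((ℓ ^ N : ℕ) : ℤ) ∣ c a) := by
  classical
  have hV : ∀ x : T ⧸ mulRange T ℓ, ℓ • x = 0 := by
    intro x
    obtain ⟨x, rfl⟩ := QuotientAddGroup.mk_surjective x
    rw [← QuotientAddGroup.mk_nsmul, QuotientAddGroup.eq_zero_iff]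
    exact ⟨x, rfl⟩
  obtain ⟨b, B, hB1, hB2⟩ := exists_basis_killed ℓ (T ⧸ mulRange T ℓ) hV
  choose e he using fun a : Fin b => QuotientAddGroup.mk_surjective (B a)
  have hsum : ∀ c : Fin b → ℤ, (QuotientAddGroup.mk (∑ a, c a • e a) : T ⧸ mulRange T ℓ) =
      ∑ a, c a • B a := by
    intro c
    rw [show (QuotientAddGroup.mk (∑ a, c a • e a) : T ⧸ mulRange T ℓ) =
        ∑ a, QuotientAddGroup.mk (c a • e a) from map_sum (QuotientAddGroup.mk' (mulRange T ℓ)) _ _]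
    refine Finset.sum_congr rfl fun a _ => ?_
    rw [QuotientAddGroup.mk_zsmul, he]
  -- generation
  have hgen : ∀ x : T, ∃ (c : Fin b → ℤ) (x' : T), x = ∑ a, c a • e a + ℓ • x' := by
    intro x
    obtain ⟨c, hc⟩ := hB1 (QuotientAddGroup.mk x)
    rw [← hsum] at hc
    obtain ⟨y, hy⟩ := QuotientAddGroup.eq.1 hc.symm
    refine ⟨c, y, ?_⟩
    have hy' : ℓ • y = -(∑ a, c a • e a) + x := hy
    rw [hy']
    abel
  -- independence
  have hind : ∀ (c : Fin b → ℤ) (x : T), ∑ a, c a • e a = ℓ • x → ∀ a, (ℓ : ℤ) ∣ c a := by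
    intro c x h
    apply hB2
    rw [← hsum, h, QuotientAddGroup.eq_zero_iff]
    exact ⟨x, rfl⟩
  refine ⟨b, e, fun N => ?_, fun N => ?_⟩
  · induction N with
    | zero =>
      intro x
      refine ⟨0, x, ?_⟩
      simp
    | succ N ih =>
      intro x
      obtain ⟨c, x', h1⟩ := ih x
      obtain ⟨c', x'', h2⟩ := hgen x'
      refine ⟨fun a => c a + (ℓ ^ N : ℕ) * c' a, x'', ?_⟩
      have h3 : ∑ a, (c a + (ℓ ^ N : ℕ) * c' a) • e a = ∑ a, c a • e a +
          ℓ ^ N • ∑ a, c' a • e a := by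
        rw [Finset.smul_sum, ← Finset.sum_add_distrib]
        refine Finset.sum_congr rfl fun a _ => ?_
        rw [add_zsmul, mul_zsmul, natCast_zsmul]
      rw [h3, h1, h2, nsmul_add, add_assoc, ← mul_nsmul', ← pow_succ]
  · induction N with
    | zero =>
      intro c x _ a
      simp
    | succ N ih =>
      intro c x h
      have h1 := hind c (ℓ ^ N • x) (by rw [h, pow_succ, mul_comm, mul_nsmul'])
      choose c' hc' using h1
      have h2 : ℓ • (∑ a, c' a • e a - ℓ ^ N • x) = 0 := by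
        rw [nsmul_sub, sub_eq_zero, ← mul_nsmul', mul_comm, ← pow_succ, ← h, Finset.smul_sum]
        refine Finset.sum_congr rfl fun a _ => ?_
        rw [hc' a, mul_zsmul, natCast_zsmul]
      have h3 := htf _ h2
      rw [sub_eq_zero] at h3
      intro a
      have h4 := ih c' x h3 a
      rw [hc' a, pow_succ, mul_comm]
      push_cast at h4 ⊢
      exact mul_dvd_mul_left _ h4

/-- Choice of elements of `ℓ^N₀ T` giving a basis of `ℓ^N₀ T / ℓ^(N₀+1) T`. -/
theorem exists_basis [hℓ : Fact ℓ.Prime] (hfin : Finite (T ⧸ mulRange T ℓ)) (N₀ : ℕ)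
    (htors : ∀ (m : ℕ) (x : T), ℓ ^ m • x = 0 → ℓ ^ N₀ • x = 0) :
    ∃ (b : ℕ) (e : Fin b → T),
      (∀ (N : ℕ) (t : T), ∃ (c : Fin b → ℤ) (t' : T),
        ℓ ^ N₀ • t = ∑ a, c a • e a + ℓ ^ N • t') ∧
      (∀ (N : ℕ) (c : Fin b → ℤ) (t : T), ∑ a, c a • e a = ℓ ^ N • t →
        ∀ a, ((ℓ ^ N : ℕ) : ℤ) ∣ (ℓ ^ N₀ : ℕ) * c a) := by
  classical
  let T' : AddSubgroup T := mulRange T (ℓ ^ N₀)
  have hT' : ∀ x : T, ℓ ^ N₀ • x ∈ T' := fun x => ⟨x, rfl⟩
  -- `T'` has no `ℓ`-torsion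
  have htf : ∀ x : T', ℓ • x = 0 → x = 0 := by
    rintro ⟨_, x, rfl⟩ hx
    have h1 : ℓ • ℓ ^ N₀ • x = 0 := congrArg Subtype.val hx
    apply Subtype.ext
    change ℓ ^ N₀ • x = 0
    apply htors (1 + N₀)
    rw [pow_add, pow_one, mul_nsmul', h1]
  -- `T'/ℓ` is finite
  have hVfin : Finite (T' ⧸ mulRange T' ℓ) := by
    let g : T →+ T' := (nsmulAddMonoidHom (α := T) (ℓ ^ N₀)).rangeRestrict
    have hg : Function.Surjective g := AddMonoidHom.rangeRestrict_surjective _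
    have hle : mulRange T ℓ ≤ (mulRange T' ℓ).comap g := by
      rintro _ ⟨y, rfl⟩
      refine ⟨g y, ?_⟩
      exact (map_nsmul g ℓ y).symm
    refine Finite.of_surjective (QuotientAddGroup.map (mulRange T ℓ) (mulRange T' ℓ) g hle) ?_
    intro x
    obtain ⟨x, rfl⟩ := QuotientAddGroup.mk_surjective x
    obtain ⟨y, rfl⟩ := hg x
    exact ⟨QuotientAddGroup.mk y, rfl⟩
  obtain ⟨b, e, hgenN, hindN⟩ := exists_basis_tf ℓ hVfin htf
  refine ⟨b, fun a => (e a : T), fun N t => ?_, fun N c t h a => ?_⟩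
  · obtain ⟨c, x', h⟩ := hgenN N ⟨ℓ ^ N₀ • t, hT' t⟩
    refine ⟨c, x', ?_⟩
    have h1 := congrArg (AddSubgroup.subtype T') h
    rw [map_add, map_sum, map_nsmul] at h1
    simp only [map_zsmul] at h1
    exact h1
  · have h1 : ∑ a, ((ℓ ^ N₀ : ℕ) * c a) • e a = ℓ ^ N • (⟨ℓ ^ N₀ • t, hT' t⟩ : T') := by
      apply Subtype.ext
      change (AddSubgroup.subtype T') (∑ a, ((ℓ ^ N₀ : ℕ) * c a) • e a) = ℓ ^ N • ℓ ^ N₀ • t
      rw [map_sum, ← mul_nsmul', mul_comm, mul_nsmul', ← h, Finset.smul_sum]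
      refine Finset.sum_congr rfl fun a _ => ?_
      rw [map_zsmul, mul_zsmul, natCast_zsmul]
      rfl
    exact hindN N _ _ h1 a

end Limit

end Groth.Agent.Vancyc.H684.UnifAlg
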