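import Groth.Agent.Vancyc.H684.UnifAlg
import Mathlib.Algebra.Module.ZMod

/-!
# Graded inverse systems of finite abelian groups of `ℤ/ℓ^N`-type

`GSys ℓ H`: groups `H i N` (degree `i`, level `N`) with the maps attached to the exact sequences
`0 → ℤ/ℓ^N → ℤ/ℓ^(m+N) → ℤ/ℓ^m → 0`.
-/

set_option autoImplicit false

universe w

open CategoryTheory

namespace Groth.Agent.Vancyc.H684.UnifSys

open UnifAlg

/-- Groups `H i N` behaving like `H^i(X, ℤ/ℓ^N)`. -/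
structure GSys (ℓ : ℕ) (H : ℕ → ℕ → Type w) [∀ i N, AddCommGroup (H i N)] where
  /-- reduction -/
  r : ∀ (i : ℕ) {N M : ℕ}, N ≤ M → H i M →+ H i N
  /-- multiplication by `ℓ^m` -/
  α : ∀ i m N : ℕ, H i N →+ H i (m + N)
  /-- connecting map -/
  δ : ∀ i m N : ℕ, H i m →+ H (i + 1) N
  r_refl : ∀ (i N : ℕ) (x : H i N), r i (le_refl N) x = x
  r_trans : ∀ (i : ℕ) {N M K : ℕ} (h1 : N ≤ M) (h2 : M ≤ K) (x : H i K),
    r i h1 (r i h2 x) = r i (h1.trans h2) x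
  r_α : ∀ (i m N : ℕ) (y : H i N), r i (Nat.le_add_left N m) (α i m N y) = ℓ ^ m • y
  α_r : ∀ (i m N : ℕ) (x : H i (m + N)), α i m N (r i (Nat.le_add_left N m) x) = ℓ ^ m • x
  nat_α : ∀ (i m : ℕ) {N' N : ℕ} (h : N' ≤ N) (y : H i N),
    α i m N' (r i h y) = r i (Nat.add_le_add_left h m) (α i m N y)
  nat_δ : ∀ (i m : ℕ) {N' N : ℕ} (h : N' ≤ N) (z : H i m), r (i + 1) h (δ i m N z) = δ i m N' z
  kill : ∀ (i N : ℕ) (x : H i N), ℓ ^ N • x = 0
  ex2 : ∀ (i m N : ℕ) (x : H i (m + N)), r i (Nat.le_add_right m N) x = 0 ↔ ∃ y, α i m N y = x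
  ex3 : ∀ (i m N : ℕ) (z : H i m), δ i m N z = 0 ↔ ∃ x, r i (Nat.le_add_right m N) x = z
  ex1 : ∀ (i m N : ℕ) (y : H (i + 1) N), α (i + 1) m N y = 0 ↔ ∃ z, δ i m N z = y
  inj : ∀ m N : ℕ, Function.Injective (α 0 m N)

namespace GSys

variable {ℓ : ℕ} {H : ℕ → ℕ → Type w} [∀ i N, AddCommGroup (H i N)] (S : GSys ℓ H)

/-- The inverse limit. -/
def lim (i : ℕ) : AddSubgroup (∀ N, H i N) where
  carrier := {x | ∀ (N M : ℕ) (h : N ≤ M), S.r i h (x M) = x N}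
  add_mem' := fun {x y} hx hy N M h => by
    change S.r i h (x M + y M) = x N + y N
    rw [map_add, hx, hy]
  zero_mem' := fun N M h => map_zero _
  neg_mem' := fun {x} hx N M h => by
    change S.r i h (-x M) = -x N
    rw [map_neg, hx]

theorem mem_lim {i : ℕ} {x : ∀ N, H i N} (hx : x ∈ S.lim i) {N M : ℕ} (h : N ≤ M) :
    S.r i h (x M) = x N := hx N M h

theorem mem_lim_of_succ {i : ℕ} {x : ∀ N, H i N}
    (hx : ∀ N, S.r i (Nat.le_succ N) (x (N + 1)) = x N) : x ∈ S.lim i := by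
  intro N M h
  induction M, h using Nat.le_induction with
  | base => exact S.r_refl i N _
  | succ M h ih => rw [← ih, ← hx M, S.r_trans]

/-- the component at level `N` -/
def ev (i N : ℕ) : S.lim i →+ H i N := (Pi.evalAddMonoidHom (fun N => H i N) N).comp (S.lim i).subtype

theorem ev_apply (i N : ℕ) (x : S.lim i) : S.ev i N x = (x : ∀ N, H i N) N := rfl

theorem r_ev (i : ℕ) {N M : ℕ} (h : N ≤ M) (x : S.lim i) : S.r i h (S.ev i M x) = S.ev i N x :=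
  x.2 N M h

theorem ext_ev {i : ℕ} {x y : S.lim i} (h : ∀ N, S.ev i N x = S.ev i N y) : x = y :=
  Subtype.ext (funext h)

theorem ev_nsmul (i m : ℕ) (x : S.lim i) : S.ev i m (ℓ ^ m • x) = 0 := by
  rw [map_nsmul, S.kill]

/-- `δ` in the limit. -/
def δlim (i m : ℕ) : H i m →+ S.lim (i + 1) where
  toFun z := ⟨fun N => S.δ i m N z, fun _ _ h => S.nat_δ i m h z⟩
  map_zero' := S.ext_ev fun N => map_zero (S.δ i m N)
  map_add' x y := S.ext_ev fun N => map_add (S.δ i m N) x y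

theorem ev_δlim (i m N : ℕ) (z : H i m) : S.ev (i + 1) N (S.δlim i m z) = S.δ i m N z := rfl

variable [∀ i N, Finite (H i N)]

/-- Exactness of the limit in the middle. -/
theorem exists_of_ev_eq_zero (i m : ℕ) (x : S.lim i) (hx : S.ev i m x = 0) :
    ∃ y : S.lim i, ℓ ^ m • y = x := by
  let Y : ℕ → Type w := fun N => {y : H i N // S.α i m N y = S.ev i (m + N) x}
  have hne : ∀ N, Nonempty (Y N) := fun N => by
    obtain ⟨y, hy⟩ := (S.ex2 i m N (S.ev i (m + N) x)).1 (by rw [S.r_ev, hx])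
    exact ⟨⟨y, hy⟩⟩
  let π : ∀ N, Y (N + 1) → Y N := fun N y =>
    ⟨S.r i (Nat.le_succ N) y.1, by rw [S.nat_α, y.2]; exact S.r_ev i _ x⟩
  obtain ⟨y, hy⟩ := exists_compatible π
  refine ⟨⟨fun N => (y N).1, S.mem_lim_of_succ fun N => congrArg Subtype.val (hy N)⟩, ?_⟩
  apply S.ext_ev
  intro N
  rw [map_nsmul]
  change ℓ ^ m • (y N).1 = _
  rw [← S.r_α i m N, (y N).2, S.r_ev]

/-- Exactness of the limit at `H i m`. -/
theorem exists_of_δlim_eq_zero (i m : ℕ) (z : H i m) (hz : S.δlim i m z = 0) :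
    ∃ x : S.lim i, S.ev i m x = z := by
  let Y : ℕ → Type w := fun N => {x : H i (m + N) // S.r i (Nat.le_add_right m N) x = z}
  have hne : ∀ N, Nonempty (Y N) := fun N => by
    obtain ⟨x, hx⟩ := (S.ex3 i m N z).1 (by rw [← S.ev_δlim, hz, map_zero])
    exact ⟨⟨x, hx⟩⟩
  let π : ∀ N, Y (N + 1) → Y N := fun N x =>
    ⟨S.r i (Nat.le_succ (m + N)) x.1, by rw [S.r_trans]; exact x.2⟩
  obtain ⟨x, hx⟩ := exists_compatible π
  have hx' : ∀ {N M : ℕ} (h : N ≤ M), S.r i (Nat.add_le_add_left h m) (x M).1 = (x N).1 := by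
    intro N M h
    induction M, h using Nat.le_induction with
    | base => exact S.r_refl i _ _
    | succ M h ih =>
      rw [← ih, ← congrArg Subtype.val (hx M), S.r_trans]
  refine ⟨⟨fun M => S.r i (Nat.le_add_left M m) (x M).1, fun N M h => ?_⟩, ?_⟩
  · change S.r i h (S.r i _ (x M).1) = S.r i _ (x N).1
    rw [S.r_trans, ← hx' h, S.r_trans]
  · change S.r i _ (x m).1 = z
    exact (x m).2

theorem finite_lim_quot (i : ℕ) : Finite (S.lim i ⧸ mulRange (S.lim i) ℓ) := by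
  have hle : mulRange (S.lim i) ℓ ≤ (S.ev i 1).ker := by
    rintro _ ⟨y, rfl⟩
    change S.ev i 1 (ℓ • y) = 0
    have := S.ev_nsmul i 1 y
    rwa [pow_one] at this
  refine Finite.of_injective (QuotientAddGroup.lift _ (S.ev i 1) hle) ?_
  rw [injective_iff_map_eq_zero]
  intro x hx
  obtain ⟨x, rfl⟩ := QuotientAddGroup.mk_surjective x
  rw [QuotientAddGroup.eq_zero_iff]
  obtain ⟨y, hy⟩ := S.exists_of_ev_eq_zero i 1 x hx
  rw [pow_one] at hy
  exact ⟨y, hy⟩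

theorem lim_sep (i : ℕ) (x : S.lim i) (hx : ∀ m : ℕ, ∃ y, ℓ ^ m • y = x) : x = 0 := by
  apply S.ext_ev
  intro N
  obtain ⟨y, rfl⟩ := hx N
  rw [S.ev_nsmul, map_zero]

/-- The torsion of the limit is killed by a power of `ℓ`. -/
theorem exists_torsion_bound (i : ℕ) :
    ∃ N₀ : ℕ, ∀ (m : ℕ) (x : S.lim i), ℓ ^ m • x = 0 → ℓ ^ N₀ • x = 0 :=
  UnifAlg.exists_torsion_bound ℓ (S.finite_lim_quot i) (S.lim_sep i)

end GSys

/-- `ℤ/n → A` attached to an element killed by `n`. -/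
def zsec {A : Type*} [AddCommGroup A] (n : ℕ) (x : A) (hx : n • x = 0) : ZMod n →+ A :=
  ZMod.lift n ⟨zmultiplesHom A x, by rw [zmultiplesHom_apply, natCast_zsmul, hx]⟩

theorem zsec_intCast {A : Type*} [AddCommGroup A] (n : ℕ) (x : A) (hx : n • x = 0) (m : ℤ) :
    zsec n x hx (m : ZMod n) = m • x := by
  rw [zsec, ZMod.lift_coe]
  rfl

namespace GSys

variable {ℓ : ℕ} {H : ℕ → ℕ → Type w} [∀ i N, AddCommGroup (H i N)] (S : GSys ℓ H)
  [∀ i N, Finite (H i N)]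

/-- **Uniform structure of `H i N`**: up to `ℓ^(3 N₀)` it is `(ℤ/ℓ^N)^b`. -/
theorem exists_unif [Fact ℓ.Prime] (i N₀ : ℕ)
    (h0 : ∀ (m : ℕ) (x : S.lim i), ℓ ^ m • x = 0 → ℓ ^ N₀ • x = 0)
    (h1 : ∀ (m : ℕ) (x : S.lim (i + 1)), ℓ ^ m • x = 0 → ℓ ^ N₀ • x = 0) :
    ∃ b : ℕ, ∀ N : ℕ, ∃ (u : (Fin b → ZMod (ℓ ^ N)) →+ H i N) (v : H i N →+ (Fin b → ZMod (ℓ ^ N))),
      (∀ x, v (u x) = ℓ ^ (3 * N₀) • x) ∧ (∀ z, u (v z) = ℓ ^ (3 * N₀) • z) := by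
  classical
  obtain ⟨b, e, hgen, hind⟩ := exists_basis ℓ (S.finite_lim_quot i) N₀ h0
  refine ⟨b, fun N => ?_⟩
  let u : (Fin b → ZMod (ℓ ^ N)) →+ H i N := ∑ a, (zsec (ℓ ^ N) (S.ev i N (e a)) (S.kill i N _)).comp
    (Pi.evalAddMonoidHom (fun _ : Fin b => ZMod (ℓ ^ N)) a)
  have hu : ∀ c : Fin b → ℤ, u (fun a => (c a : ZMod (ℓ ^ N))) = S.ev i N (∑ a, c a • e a) := by
    intro c
    rw [map_sum]
    simp only [u, AddMonoidHom.finsetSum_apply, AddMonoidHom.comp_apply, Pi.evalAddMonoidHom_apply,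
      zsec_intCast, map_zsmul]
  have hp : ∀ x, u x = 0 → ℓ ^ N₀ • x = 0 := by
    intro x hx
    choose c hc using fun a => ZMod.intCast_surjective (x a)
    have hx' : x = fun a => (c a : ZMod (ℓ ^ N)) := funext fun a => (hc a).symm
    rw [hx', hu] at hx
    obtain ⟨y, hy⟩ := S.exists_of_ev_eq_zero i N _ hx
    have h2 := hind N c y hy.symm
    funext a
    rw [hx']
    change ℓ ^ N₀ • (c a : ZMod (ℓ ^ N)) = 0
    rw [nsmul_eq_mul]
    have h3 := (ZMod.intCast_zmod_eq_zero_iff_dvd _ (ℓ ^ N)).2 (h2 a)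
    rw [← h3]
    push_cast
    rfl
  have hq : ∀ z, ∃ x, u x = ℓ ^ (2 * N₀) • z := by
    intro z
    obtain ⟨t, ht⟩ := S.exists_of_δlim_eq_zero i N (ℓ ^ N₀ • z) (by
      rw [map_nsmul]
      apply h1 N
      rw [← map_nsmul, S.kill, map_zero])
    obtain ⟨c, t', hc⟩ := hgen N t
    refine ⟨fun a => (c a : ZMod (ℓ ^ N)), ?_⟩
    rw [hu, two_mul, pow_add, mul_nsmul', ← ht, ← map_nsmul, hc, map_add, S.ev_nsmul, add_zero]
  obtain ⟨v, hv1, hv2⟩ := exists_back u (ℓ ^ N₀) (ℓ ^ (2 * N₀)) hp hq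
  have e : ℓ ^ N₀ * ℓ ^ (2 * N₀) = ℓ ^ (3 * N₀) := by
    rw [← pow_add]
    congr 1
    ring
  rw [e] at hv1 hv2
  exact ⟨u, v, hv1, hv2⟩

end GSys

end Groth.Agent.Vancyc.H684.UnifSys
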